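import Cfsg.Agent.HigmanSL2.Structure
import Cfsg.Prelude.Def_Transfer
import Cfsg.Prelude.Def_BaumannBlocks

/-!
# Higman's theorem: `Q` elementary abelian, a sum of natural modules
-/

namespace CfsgLib.HigmanSL2

open Matrix
open scoped commutatorElement IsMulCommutative

variable {G : Type*} [Group G] [Finite G] {Q : Subgroup G} [Q.Normal]
variable {K : Type*} [Field K] [CharP K 2] [Finite K]
variable (e : G ⧸ Q ≃* SpecialLinearGroup (Fin 2) K)

section Section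

variable {G' : Type*} [Group G'] (π : G →* G') (hπ : Function.Surjective π) (A : Subgroup G')
  [A.Normal] [IsMulCommutative A] (hA : ∀ q ∈ Q, ∀ a ∈ A, π q * a = a * π q)

/-- conjugation by `G` on a normal abelian subgroup of an image -/
noncomputable def conjHom : G →* AddMonoid.End (Additive A) where
  toFun g := MonoidHom.toAdditive (MulAut.conjNormal (π g) : MulAut A).toMonoidHom
  map_one' := by
    refine AddMonoidHom.ext fun a => ?_
    show Additive.ofMul (MulAut.conjNormal (π 1) a.toMul) = a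
    rw [map_one, map_one]
    rfl
  map_mul' g h := by
    refine AddMonoidHom.ext fun a => ?_
    show Additive.ofMul (MulAut.conjNormal (π (g * h)) a.toMul) =
      Additive.ofMul (MulAut.conjNormal (π g) (MulAut.conjNormal (π h) a.toMul))
    rw [map_mul, map_mul]
    rfl

/-- the action of `SL(2,K) ≅ G/Q` on the section -/
noncomputable def secRep : SpecialLinearGroup (Fin 2) K →* AddMonoid.End (Additive A) :=
  (QuotientGroup.lift Q (conjHom π A) fun q hq => by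
    refine MonoidHom.mem_ker.mpr (AddMonoidHom.ext fun a => ?_)
    show Additive.ofMul (MulAut.conjNormal (π q) a.toMul) = a
    apply Additive.toMul.injective
    apply Subtype.ext
    rw [toMul_ofMul, MulAut.conjNormal_apply, hA q hq _ a.toMul.2, mul_inv_cancel_right]).comp
    e.symm.toMonoidHom

omit [Finite G] [CharP K 2] [Finite K] in
theorem secRep_apply (g : G) (a : A) :
    ((secRep e π A hA (e (QuotientGroup.mk g)) (Additive.ofMul a)).toMul : G') =
      π g * a * (π g)⁻¹ := by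
  simp only [secRep, MonoidHom.comp_apply, MulEquiv.coe_toMonoidHom, MulEquiv.symm_apply_apply,
    QuotientGroup.lift_mk]
  exact MulAut.conjNormal_apply (π g) a

variable (hQ : IsPGroup 2 ↥Q) (hK : 2 < Nat.card K) (x : G) (hx : orderOf x = 3)
  (hfpf : ∀ q ∈ Q, x * q * x⁻¹ = q → q = 1) (hAQ : A ≤ Q.map π)

omit [CharP K 2] [Finite K] in
include hfpf in
/-- `x` fixes no nontrivial element of a section of `Q` -/
theorem eq_one_of_fixed {q : G} (hq : q ∈ Q) (h : π (x * q * x⁻¹) = π q) : π q = 1 := by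
  set N : Subgroup G := Q ⊓ π.ker with hN
  let f : ↥N → ↥N := fun n => ⟨(n : G)⁻¹ * (x * n * x⁻¹), by
    have hn1 : (n : G) ∈ Q := n.2.1
    have hn2 : (n : G) ∈ π.ker := n.2.2
    refine Subgroup.mem_inf.mpr
      ⟨mul_mem (inv_mem hn1) (Subgroup.Normal.conj_mem inferInstance _ hn1 x), ?_⟩
    exact mul_mem (inv_mem hn2) (Subgroup.Normal.conj_mem inferInstance _ hn2 x)⟩
  have key : ∀ a ∈ Q, ∀ b ∈ Q, a⁻¹ * (x * a * x⁻¹) = b⁻¹ * (x * b * x⁻¹) → a = b := by
    intro a ha b hb hab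
    have := hfpf (b * a⁻¹) (mul_mem hb (inv_mem ha)) (by
      have e1 : x * b * x⁻¹ = b * (a⁻¹ * (x * a * x⁻¹)) := by
        rw [hab, mul_inv_cancel_left]
      calc x * (b * a⁻¹) * x⁻¹ = (x * b * x⁻¹) * (x * a * x⁻¹)⁻¹ := by group
        _ = b * a⁻¹ := by rw [e1]; group)
    exact (mul_inv_eq_one.mp this).symm
  have hinj : Function.Injective f := fun a b hab =>
    Subtype.ext (key a a.2.1 b b.2.1 (congrArg Subtype.val hab))
  have hmem : q⁻¹ * (x * q * x⁻¹) ∈ N := Subgroup.mem_inf.mpr ⟨mul_mem (inv_mem (show q ∈ Q from hq))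
    (Subgroup.Normal.conj_mem inferInstance _ hq x), MonoidHom.mem_ker.mpr (by
      rw [map_mul, h, map_inv, inv_mul_cancel])⟩
  obtain ⟨n, hn⟩ := (Finite.injective_iff_surjective.mp hinj) ⟨_, hmem⟩
  have := key n n.2.1 q hq (congrArg Subtype.val hn)
  rw [← this]
  exact MonoidHom.mem_ker.mp n.2.2

include hQ hK hx hfpf hAQ in
theorem sec_isFpf : IsFpf (secRep e π A hA) where
  big := hK
  two a := by
    obtain ⟨k, hk⟩ := ((hQ.map π).to_le hAQ) a.toMul
    exact ⟨k, Additive.toMul.injective (by rw [toMul_nsmul, hk]; rfl)⟩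
  fix a ha := by
    set g := e (QuotientGroup.mk x) with hg
    have h3 : g ^ 3 = 1 := by
      rw [hg, ← map_pow, ← QuotientGroup.mk_pow, ← hx, pow_orderOf_eq_one]
      exact map_one e
    have h1 : g ≠ 1 := by
      intro h
      rw [hg, MulEquiv.map_eq_one_iff, QuotientGroup.eq_one_iff] at h
      obtain ⟨k, hk⟩ := hQ ⟨x, h⟩
      have hdvd : orderOf x ∣ 2 ^ k := orderOf_dvd_of_pow_eq_one (congrArg Subtype.val hk)
      rw [hx] at hdvd
      exact absurd (Nat.Prime.dvd_of_dvd_pow Nat.prime_three hdvd) (by norm_num)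
    obtain ⟨P, hP⟩ := exists_conj_xEl g h3 h1
    set r := secRep e π A hA
    have h0 : r g (r P⁻¹ a) = r P⁻¹ a := by
      rw [← act_mul, show g * P⁻¹ = P⁻¹ * xEl by
        calc g * P⁻¹ = P⁻¹ * (P * g) * P⁻¹ := by group
          _ = P⁻¹ * xEl := by rw [hP]; group, act_mul, ha]
    set b := r P⁻¹ a
    obtain ⟨q, hq, hqb⟩ := hAQ b.toMul.2
    have hb : (b.toMul : G') = 1 := by
      rw [← hqb]
      refine eq_one_of_fixed π x hfpf hq ?_
      have := secRep_apply e π A hA x b.toMul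
      rw [ofMul_toMul, ← hg, h0, ← hqb] at this
      rw [map_mul, map_mul, map_inv, ← this]
    exact act_inj r P⁻¹ (by rw [map_zero]; exact Additive.toMul.injective (Subtype.ext hb))

end Section

variable (hQ : IsPGroup 2 ↥Q) (hK : 2 < Nat.card K) (x : G) (hx : orderOf x = 3)
  (hfpf : ∀ q ∈ Q, x * q * x⁻¹ = q → q = 1)

include e hQ hK hx hfpf in
theorem isMulCommutative_Q : IsMulCommutative ↥Q := by
  classical
  set Z : Subgroup G := (Subgroup.center ↥Q).map Q.subtype with hZ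
  set D : Subgroup G := (commutator ↥Q).map Q.subtype with hD
  set Z₂ : Subgroup G := (Subgroup.upperCentralSeries ↥Q 2).map Q.subtype with hZ₂
  have hZc : ∀ z ∈ Z, z ∈ Q ∧ ∀ q ∈ Q, q * z = z * q := by
    rintro _ ⟨z, hz, rfl⟩
    exact ⟨z.2, fun q hq => congrArg Subtype.val (Subgroup.mem_center_iff.mp hz ⟨q, hq⟩)⟩
  have hZmem : ∀ z ∈ Q, (∀ q ∈ Q, q * z = z * q) → z ∈ Z := fun z hz h =>
    ⟨⟨z, hz⟩, Subgroup.mem_center_iff.mpr fun q => Subtype.ext (h q q.2), rfl⟩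
  have hc2 : ∀ z ∈ Z₂, z ∈ Q ∧ ∀ q ∈ Q, ⁅q, z⁆ ∈ Z := by
    rintro _ ⟨z, hz, rfl⟩
    refine ⟨z.2, fun q hq => ?_⟩
    have h := Subgroup.mem_upperCentralSeries_succ_iff.mp hz ⟨q, hq⟩
    rw [Subgroup.upperCentralSeries_one] at h
    refine ⟨⁅(⟨q, hq⟩ : ↥Q), z⁆, ?_, ?_⟩
    · rw [← commutatorElement_inv]
      exact inv_mem h
    · rw [map_commutatorElement]
      rfl
  -- identities for commutators with values in `Z`
  have hl : ∀ q ∈ Q, ∀ q' ∈ Q, ∀ z ∈ Z₂, ⁅q * q', z⁆ = ⁅q, z⁆ * ⁅q', z⁆ := by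
    intro q hq q' hq' z hz
    have h1 := (hZc _ ((hc2 z hz).2 q' hq')).2 q hq
    have h2 := (hZc _ ((hc2 z hz).2 q' hq')).2 ⁅q, z⁆ ((hZc _ ((hc2 z hz).2 q hq)).1)
    calc ⁅q * q', z⁆ = q * ⁅q', z⁆ * q⁻¹ * ⁅q, z⁆ := by
          simp only [commutatorElement_def]; group
      _ = ⁅q, z⁆ * ⁅q', z⁆ := by rw [h1, mul_inv_cancel_right, h2]
  have hr : ∀ q ∈ Q, ∀ z ∈ Z₂, ∀ z' ∈ Z₂, ⁅q, z * z'⁆ = ⁅q, z⁆ * ⁅q, z'⁆ := by
    intro q hq z hz z' hz'
    have h1 := (hZc _ ((hc2 z' hz').2 q hq)).2 z (hc2 z hz).1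
    calc ⁅q, z * z'⁆ = ⁅q, z⁆ * (z * ⁅q, z'⁆ * z⁻¹) := by
          simp only [commutatorElement_def]; group
      _ = ⁅q, z⁆ * ⁅q, z'⁆ := by rw [h1, mul_inv_cancel_right]
  have hDZ : ∀ d ∈ D, ∀ z ∈ Z₂, ⁅d, z⁆ = 1 := by
    intro d hd z hz
    obtain ⟨d₀, hd₀, rfl⟩ := hd
    let f : ↥Q →* ↥(Subgroup.center ↥Q) := MonoidHom.mk'
      (fun q => ⟨⟨⁅(q : G), z⁆, (hZc _ ((hc2 z hz).2 q q.2)).1⟩,
        Subgroup.mem_center_iff.mpr fun p =>
          Subtype.ext ((hZc _ ((hc2 z hz).2 q q.2)).2 p p.2)⟩)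
      fun q q' => Subtype.ext (Subtype.ext (hl q q.2 q' q'.2 z hz))
    have := Abelianization.commutator_subset_ker f hd₀
    exact congrArg (fun c : ↥(Subgroup.center ↥Q) => ((c : ↥Q) : G)) (MonoidHom.mem_ker.mp this)
  have hZr : ∀ q ∈ Q, ∀ z ∈ Z, ⁅q, z⁆ = 1 := fun q hq z hz => by
    rw [commutatorElement_def, (hZc z hz).2 q hq]; group
  -- the three sections
  set π₁ := QuotientGroup.mk' D
  set π₂ := QuotientGroup.mk' Z
  set A₁ : Subgroup (G ⧸ D) := Q.map π₁ with hA₁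
  set A₂ : Subgroup (G ⧸ Z) := Z₂.map π₂ with hA₂
  haveI : A₁.Normal := Subgroup.Normal.map inferInstance _ (QuotientGroup.mk'_surjective D)
  haveI : A₂.Normal := Subgroup.Normal.map inferInstance _ (QuotientGroup.mk'_surjective Z)
  have hD1 : ∀ a ∈ Q, ∀ b ∈ Q, π₁ a * π₁ b = π₁ b * π₁ a := by
    intro a ha b hb
    have h : ⁅(⟨a, ha⟩ : ↥Q), ⟨b, hb⟩⁆ ∈ commutator ↥Q :=
      Subgroup.commutator_mem_commutator (Subgroup.mem_top _) (Subgroup.mem_top _)
    have h' : ⁅a, b⁆ ∈ D := ⟨_, h, by rw [map_commutatorElement]; rfl⟩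
    have h0 : π₁ ⁅a, b⁆ = 1 := (QuotientGroup.eq_one_iff _).mpr h'
    rw [map_commutatorElement, commutatorElement_def] at h0
    exact mul_inv_eq_iff_eq_mul.mp (mul_inv_eq_one.mp h0)
  have hD2 : ∀ a ∈ Q, ∀ b ∈ Z₂, π₂ a * π₂ b = π₂ b * π₂ a := by
    intro a ha b hb
    have h0 : π₂ ⁅a, b⁆ = 1 := (QuotientGroup.eq_one_iff _).mpr ((hc2 b hb).2 a ha)
    rw [map_commutatorElement, commutatorElement_def] at h0
    exact mul_inv_eq_iff_eq_mul.mp (mul_inv_eq_one.mp h0)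
  haveI : IsMulCommutative A₁ := ⟨⟨fun a b => by
    obtain ⟨a₀, ha₀, ha⟩ := a.2
    obtain ⟨b₀, hb₀, hb⟩ := b.2
    apply Subtype.ext
    show (a : G ⧸ D) * b = b * a
    rw [← ha, ← hb]
    exact hD1 a₀ ha₀ b₀ hb₀⟩⟩
  haveI : IsMulCommutative A₂ := ⟨⟨fun a b => by
    obtain ⟨a₀, ha₀, ha⟩ := a.2
    obtain ⟨b₀, hb₀, hb⟩ := b.2
    apply Subtype.ext
    show (a : G ⧸ Z) * b = b * a
    rw [← ha, ← hb]
    exact hD2 a₀ (hc2 a₀ ha₀).1 b₀ hb₀⟩⟩
  haveI : IsMulCommutative Z := ⟨⟨fun a b => Subtype.ext ((hZc b b.2).2 a (hZc a a.2).1)⟩⟩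
  have hc₁ : ∀ q ∈ Q, ∀ a ∈ A₁, π₁ q * a = a * π₁ q := by
    rintro q hq _ ⟨a, ha, rfl⟩
    exact hD1 q hq a ha
  have hc₂ : ∀ q ∈ Q, ∀ a ∈ A₂, π₂ q * a = a * π₂ q := by
    rintro q hq _ ⟨a, ha, rfl⟩
    exact hD2 q hq a ha
  have hc₃ : ∀ q ∈ Q, ∀ a ∈ Z, MonoidHom.id G q * a = a * MonoidHom.id G q :=
    fun q hq a ha => (hZc a ha).2 q hq
  have H₁ := sec_isFpf e π₁ A₁ hc₁ hQ hK x hx hfpf le_rfl
  have H₂ := sec_isFpf e π₂ A₂ hc₂ hQ hK x hx hfpf (Subgroup.map_mono fun z hz => (hc2 z hz).1)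
  have H₃ := sec_isFpf e (MonoidHom.id G) Z hc₃ hQ hK x hx hfpf
    (fun z hz => ⟨z, (hZc z hz).1, rfl⟩)
  -- the pairing
  choose s₁ hs₁ hp₁ using fun a : Additive A₁ => a.toMul.2
  choose s₂ hs₂ hp₂ using fun a : Additive A₂ => a.toMul.2
  let c : Additive A₁ → Additive A₂ → Additive Z := fun a b =>
    Additive.ofMul ⟨⁅s₁ a, s₂ b⁆, (hc2 _ (hs₂ b)).2 _ (hs₁ a)⟩
  have hwd : ∀ (a : Additive A₁) (b : Additive A₂) (q z : G), q ∈ Q → z ∈ Z₂ →
      π₁ q = (a.toMul : G ⧸ D) → π₂ z = (b.toMul : G ⧸ Z) →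
      ((c a b).toMul : G) = ⁅q, z⁆ := by
    intro a b q z hq hz hqa hzb
    show ⁅s₁ a, s₂ b⁆ = _
    obtain ⟨d, hd, hqd⟩ : ∃ d ∈ D, q = s₁ a * d :=
      ⟨(s₁ a)⁻¹ * q, QuotientGroup.eq.mp (show π₁ (s₁ a) = π₁ q by rw [hp₁, hqa]),
        (mul_inv_cancel_left _ _).symm⟩
    obtain ⟨n, hn, hzn⟩ : ∃ n ∈ Z, z = s₂ b * n :=
      ⟨(s₂ b)⁻¹ * z, QuotientGroup.eq.mp (show π₂ (s₂ b) = π₂ z by rw [hp₂, hzb]),
        (mul_inv_cancel_left _ _).symm⟩
    have hdQ : d ∈ Q := by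
      obtain ⟨d₀, _, rfl⟩ := hd
      exact d₀.2
    have hnZ : n ∈ Z₂ := by
      have := mul_mem (inv_mem (hs₂ b)) hz
      rwa [hzn, inv_mul_cancel_left] at this
    rw [hqd, hl _ (hs₁ a) _ hdQ z hz, hDZ d hd z hz, mul_one, hzn, hr _ (hs₁ a) _ (hs₂ b) _ hnZ,
      hZr _ (hs₁ a) n hn, mul_one]
  let β : Additive A₁ →+ Additive A₂ →+ Additive Z := AddMonoidHom.mk'
    (fun a => AddMonoidHom.mk' (c a) fun b b' => by
      apply Additive.toMul.injective
      apply Subtype.ext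
      rw [hwd a (b + b') (s₁ a) (s₂ b * s₂ b') (hs₁ a) (mul_mem (hs₂ b) (hs₂ b')) (hp₁ a)
        (by rw [map_mul, hp₂, hp₂]; rfl)]
      exact hr _ (hs₁ a) _ (hs₂ b) _ (hs₂ b'))
    fun a a' => by
      refine AddMonoidHom.ext fun b => ?_
      apply Additive.toMul.injective
      apply Subtype.ext
      show ((c (a + a') b).toMul : G) = _
      rw [hwd (a + a') b (s₁ a * s₁ a') (s₂ b) (mul_mem (hs₁ a) (hs₁ a')) (hs₂ b)
        (by rw [map_mul, hp₁, hp₁]; rfl) (hp₂ b)]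
      exact hl _ (hs₁ a) _ (hs₁ a') _ (hs₂ b)
  have hβ : ∀ g a b, β (secRep e π₁ A₁ hc₁ g a) (secRep e π₂ A₂ hc₂ g b) =
      secRep e (MonoidHom.id G) Z hc₃ g (β a b) := by
    intro g a b
    obtain ⟨y, rfl⟩ := e.surjective g
    induction y using QuotientGroup.induction_on with
    | H y =>
      apply Additive.toMul.injective
      apply Subtype.ext
      have hn : Z₂.Normal := inferInstance
      have e₁ := secRep_apply e π₁ A₁ hc₁ y a.toMul
      have e₂ := secRep_apply e π₂ A₂ hc₂ y b.toMul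
      have e₃ := secRep_apply e (MonoidHom.id G) Z hc₃ y (β a b).toMul
      rw [ofMul_toMul] at e₁ e₂ e₃
      rw [e₃]
      show ((c _ _).toMul : G) = _
      rw [hwd _ _ (y * s₁ a * y⁻¹) (y * s₂ b * y⁻¹)
        (Subgroup.Normal.conj_mem inferInstance _ (hs₁ a) y) (hn.conj_mem _ (hs₂ b) y)
        (by rw [e₁, map_mul, map_mul, map_inv, hp₁])
        (by rw [e₂, map_mul, map_mul, map_inv, hp₂])]
      show _ = y * ⁅s₁ a, s₂ b⁆ * y⁻¹
      simp only [commutatorElement_def]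
      group
  have hzero := IsFpf.pairing_eq_zero H₁ H₂ H₃ β hβ
  -- so `Z₂ = Z` and `Q` is abelian
  have hZ2Z : ∀ z ∈ Z₂, z ∈ Z := by
    intro z hz
    refine hZmem z (hc2 z hz).1 fun q hq => ?_
    have h := hzero (Additive.ofMul ⟨π₁ q, ⟨q, hq, rfl⟩⟩) (Additive.ofMul ⟨π₂ z, ⟨z, hz, rfl⟩⟩)
    have h' := congrArg (fun u : Additive Z => (u.toMul : G)) h
    rw [show β _ _ = c _ _ from rfl] at h'
    simp only [toMul_zero, OneMemClass.coe_one] at h'
    rw [hwd (Additive.ofMul ⟨π₁ q, ⟨q, hq, rfl⟩⟩) (Additive.ofMul ⟨π₂ z, ⟨z, hz, rfl⟩⟩) q z hq hz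
      rfl rfl, commutatorElement_def] at h'
    exact mul_inv_eq_iff_eq_mul.mp (mul_inv_eq_one.mp h')
  have htop : Subgroup.center ↥Q = ⊤ := by
    by_contra hne
    haveI : Fact (Nat.Prime 2) := ⟨Nat.prime_two⟩
    haveI : Nontrivial (↥Q ⧸ Subgroup.center ↥Q) := QuotientGroup.nontrivial_iff.mpr hne
    haveI := (hQ.to_quotient (Subgroup.center ↥Q)).center_nontrivial
    obtain ⟨⟨w, hw⟩, hw1⟩ := exists_ne (1 : ↥(Subgroup.center (↥Q ⧸ Subgroup.center ↥Q)))
    obtain ⟨z, rfl⟩ := QuotientGroup.mk_surjective w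
    have hz2 : z ∈ Subgroup.upperCentralSeries ↥Q 2 := by
      refine Subgroup.mem_upperCentralSeries_succ_iff.mpr fun p => ?_
      rw [Subgroup.upperCentralSeries_one, ← QuotientGroup.eq_one_iff]
      show (QuotientGroup.mk' _) ⁅z, p⁆ = 1
      rw [map_commutatorElement, commutatorElement_eq_one_iff_mul_comm]
      exact (Subgroup.mem_center_iff.mp hw _).symm
    obtain ⟨z', hz', hzz⟩ := hZ2Z (z : G) ⟨z, hz2, rfl⟩
    rw [show z' = z from Subtype.ext hzz] at hz'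
    exact hw1 (Subtype.ext ((QuotientGroup.eq_one_iff z).mpr hz'))
  refine ⟨⟨fun a b => ?_⟩⟩
  exact Subgroup.mem_center_iff.mp (by rw [htop]; trivial) a

include e hQ hK hx hfpf in
/-- **G. Higman's theorem.** -/
theorem higman : Cfsg.IsElementaryAbelian 2 Q ∧
    ∃ (k : ℕ) (V : Fin k → Subgroup G), (∀ i, V i ≤ Q ∧ (V i).Normal ∧
      Cfsg.ActsAsSL2OnSection K ⊤ ⊤ (V i) ⊥) ∧ iSupIndep V ∧ ⨆ i, V i = Q := by
  classical
  haveI hcomm := isMulCommutative_Q e hQ hK x hx hfpf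
  have hc : ∀ q ∈ Q, ∀ a ∈ Q, MonoidHom.id G q * a = a * MonoidHom.id G q := fun q hq a ha =>
    congrArg Subtype.val (hcomm.is_comm.comm (⟨q, hq⟩ : ↥Q) ⟨a, ha⟩)
  have H := sec_isFpf e (MonoidHom.id G) Q hc hQ hK x hx hfpf (fun z hz => ⟨z, hz, rfl⟩)
  obtain ⟨k, Φ, hΦ⟩ := H.exists_natural
  refine ⟨⟨hcomm, fun a ha => ?_⟩, ?_⟩
  · have h := H.add_self_natPart (m := Additive.ofMul ⟨a, ha⟩) (by
      rw [H.natPart_eq_top]; trivial)
    rw [pow_two]
    exact congrArg (fun u : Additive ↥Q => (u.toMul : G)) h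
  let F : Multiplicative (Fin k → Fin 2 → K) →* G :=
    { toFun := fun v => ((Φ v.toAdd).toMul : ↥Q)
      map_one' := by simp
      map_mul' := fun v w => by simp }
  have hFinj : Function.Injective F := fun v w h =>
    Multiplicative.toAdd.injective (Φ.injective (Additive.toMul.injective (Subtype.ext h)))
  let ρ : G →* SpecialLinearGroup (Fin 2) K := e.toMonoidHom.comp (QuotientGroup.mk' Q)
  have hFconj : ∀ g v, g * F v * g⁻¹ =
      F (Multiplicative.ofAdd fun i => (ρ g).val.mulVec (v.toAdd i)) := by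
    intro g v
    show g * ((Φ v.toAdd).toMul : G) * g⁻¹ = ((Φ _).toMul : G)
    rw [toAdd_ofAdd, ← hΦ]
    have := secRep_apply e (MonoidHom.id G) Q hc g (Φ v.toAdd).toMul
    rw [ofMul_toMul] at this
    exact this.symm
  let S : Fin k → Multiplicative (Fin 2 → K) →* G := fun i =>
    F.comp (AddMonoidHom.toMultiplicative (AddMonoidHom.single (fun _ : Fin k => Fin 2 → K) i))
  have hSinj : ∀ i, Function.Injective (S i) := fun i v w h =>
    Multiplicative.toAdd.injective (Pi.single_injective i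
      (congrArg Multiplicative.toAdd (hFinj h)))
  have hSconj : ∀ i g v, g * S i v * g⁻¹ =
      S i (Multiplicative.ofAdd ((ρ g).val.mulVec v.toAdd)) := by
    intro i g v
    show g * F _ * g⁻¹ = F _
    rw [hFconj]
    congr 1
    apply Multiplicative.toAdd.injective
    funext j
    show (ρ g).val.mulVec ((Pi.single i v.toAdd : Fin k → Fin 2 → K) j) =
      (Pi.single i ((ρ g).val.mulVec v.toAdd) : Fin k → Fin 2 → K) j
    by_cases hj : j = i
    · subst hj; simp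
    · simp [hj]
  have hnorm : ∀ i, (S i).range.Normal := fun i => ⟨fun n hn g => by
    obtain ⟨v, rfl⟩ := hn
    exact ⟨_, (hSconj i g v).symm⟩⟩
  refine ⟨k, fun i => (S i).range, fun i => ⟨?_, hnorm i, ?_⟩, ?_, ?_⟩
  · rintro _ ⟨v, rfl⟩
    exact ((Φ _).toMul).2
  · refine ⟨Subgroup.le_normalizer_of_normal, bot_le, ρ.comp (⊤ : Subgroup G).subtype,
      (MonoidHom.ofInjective (hSinj i)).symm.toMonoidHom, ?_, ?_, ?_, ?_⟩
    · rw [MonoidHom.range_eq_top]
      intro y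
      obtain ⟨q, hq⟩ := e.surjective y
      obtain ⟨g, rfl⟩ := QuotientGroup.mk_surjective q
      exact ⟨⟨g, trivial⟩, hq⟩
    · exact (MonoidHom.ofInjective (hSinj i)).symm.surjective
    · intro u
      rw [MulEquiv.coe_toMonoidHom, MulEquiv.map_eq_one_iff, Subgroup.mem_bot]
      exact Subtype.ext_iff
    · intro g u
      obtain ⟨v, rfl⟩ : ∃ v, MonoidHom.ofInjective (hSinj i) v = u :=
        (MonoidHom.ofInjective (hSinj i)).surjective u
      refine ⟨MonoidHom.ofInjective (hSinj i) (Multiplicative.ofAdd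
        ((ρ g).val.mulVec v.toAdd)), ?_, ?_⟩
      · exact (hSconj i g v).symm
      · simp
  · intro i
    rw [disjoint_iff, eq_bot_iff]
    rintro y ⟨⟨v, rfl⟩, hy⟩
    have hsup : (⨆ (j) (_ : j ≠ i), (S j).range) ≤
        (AddSubgroup.toSubgroup (AddMonoidHom.ker
          (Pi.evalAddMonoidHom (fun _ : Fin k => Fin 2 → K) i))).map F := by
      refine iSup₂_le fun j hj => ?_
      rintro _ ⟨w, rfl⟩
      refine ⟨_, ?_, rfl⟩
      show (Pi.single j w.toAdd : Fin k → Fin 2 → K) i = 0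
      simp [Ne.symm hj]
    obtain ⟨w, hw, hwv⟩ := hsup hy
    have hv : v.toAdd = 0 := by
      have h := congrArg (fun u : Multiplicative (Fin k → Fin 2 → K) => Multiplicative.toAdd u i) (hFinj hwv)
      have hw' : Multiplicative.toAdd w i = 0 := hw
      simp only [hw'] at h
      simpa using h.symm
    rw [Subgroup.mem_bot, show v = 1 from Multiplicative.toAdd.injective hv, map_one]
  · apply le_antisymm
    · refine iSup_le fun i => ?_
      rintro _ ⟨v, rfl⟩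
      exact ((Φ _).toMul).2
    · intro q hq
      obtain ⟨v, hv⟩ := Φ.surjective (Additive.ofMul ⟨q, hq⟩)
      have hT : ∀ w : Fin k → Fin 2 → K,
          F (Multiplicative.ofAdd w) ∈ ⨆ i, (S i).range := by
        intro w
        have key : ∀ T : Finset (Fin k),
            F (Multiplicative.ofAdd (∑ i ∈ T, (Pi.single i (w i) : Fin k → Fin 2 → K))) ∈
              ⨆ i, (S i).range := by
          intro T
          induction T using Finset.induction_on with
          | empty => simpa using one_mem _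
          | @insert i T hi ih =>
            rw [Finset.sum_insert hi, ofAdd_add, map_mul]
            exact mul_mem (Subgroup.mem_iSup_of_mem i ⟨Multiplicative.ofAdd (w i), rfl⟩) ih
        simpa [Finset.univ_sum_single] using key Finset.univ
      have := hT v
      rw [show F (Multiplicative.ofAdd v) = q by
        show ((Φ v).toMul : G) = q
        rw [hv]
        rfl] at this
      exact this

end CfsgLib.HigmanSL2
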