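import Mathlib

/-!
# Modules for `SL(2, 2^n)` with a fixed-point-free element of order three (G. Higman)

If `SL(2,q)`, `q = 2^n ≥ 4`, acts on a finite abelian 2-group `M` such that an element of order 3
fixes only `0`, then `M` has exponent 2 and is the direct sum of natural modules.  The proof is
self-contained: with `x = u(1) w`, the relation `1 + x + x² = 0`, conjugated by the torus, reads
`h(t) + u(t) w + w u(t⁻¹) = 0`, and everything follows from this.
-/

namespace CfsgLib.HigmanSL2

open Matrix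

variable {K : Type*} [Field K]

theorem val_mul (g h : SpecialLinearGroup (Fin 2) K) : (g * h).val = g.val * h.val := rfl

theorem val_one : (1 : SpecialLinearGroup (Fin 2) K).val = 1 := rfl

/-- upper unitriangular element -/
def uEl (t : K) : SpecialLinearGroup (Fin 2) K :=
  ⟨!![1, t; 0, 1], by simp [Matrix.det_fin_two]⟩

/-- diagonal element -/
def hEl (a : Kˣ) : SpecialLinearGroup (Fin 2) K :=
  ⟨!![(a : K), 0; 0, ((a⁻¹ : Kˣ) : K)], by simp [Matrix.det_fin_two]⟩

/-- the involution swapping the two coordinates (characteristic two) -/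
def wEl [CharP K 2] : SpecialLinearGroup (Fin 2) K :=
  ⟨!![0, 1; 1, 0], by simp [Matrix.det_fin_two, CharTwo.neg_eq]⟩

theorem uEl_zero : uEl (0 : K) = 1 := by
  apply Subtype.ext
  ext i j
  fin_cases i <;> fin_cases j <;> simp [uEl]

theorem uEl_mul (s t : K) : uEl s * uEl t = uEl (s + t) := by
  apply Subtype.ext
  rw [val_mul]
  simp [uEl, add_comm]

theorem hEl_one : hEl (1 : Kˣ) = 1 := by
  apply Subtype.ext
  ext i j
  fin_cases i <;> fin_cases j <;> simp [hEl]

theorem hEl_mul (a b : Kˣ) : hEl a * hEl b = hEl (a * b) := by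
  apply Subtype.ext
  rw [val_mul]
  simp [hEl, mul_comm]

theorem hEl_mul_uEl (a : Kˣ) (t : K) : hEl a * uEl t = uEl ((a : K) * a * t) * hEl a := by
  apply Subtype.ext
  rw [val_mul, val_mul]
  simp only [hEl, uEl]
  ext i j
  fin_cases i <;> fin_cases j <;> simp [Matrix.mul_apply, Fin.sum_univ_two]
  field_simp

variable [CharP K 2]

theorem wEl_mul_wEl : (wEl : SpecialLinearGroup (Fin 2) K) * wEl = 1 := by
  apply Subtype.ext
  rw [val_mul, val_one]
  simp [wEl, Matrix.one_fin_two]

theorem wEl_mul_hEl (a : Kˣ) : wEl * hEl a = hEl a⁻¹ * wEl := by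
  apply Subtype.ext
  rw [val_mul, val_mul]
  simp [wEl, hEl]

/-- the element of order three -/
def xEl : SpecialLinearGroup (Fin 2) K := uEl 1 * wEl

theorem xEl_val : (xEl : SpecialLinearGroup (Fin 2) K).val = !![1, 1; 1, 0] := by
  show (uEl 1).val * wEl.val = _
  simp [uEl, wEl]

theorem xEl_sq : (xEl : SpecialLinearGroup (Fin 2) K) * xEl = wEl * uEl 1 := by
  apply Subtype.ext
  simp only [xEl, val_mul]
  simp [uEl, wEl, CharTwo.add_self_eq_zero]

theorem xEl_cube : (xEl : SpecialLinearGroup (Fin 2) K) * (xEl * xEl) = 1 := by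
  rw [xEl_sq]
  apply Subtype.ext
  simp only [xEl, val_mul, val_one]
  ext i j
  fin_cases i <;> fin_cases j <;>
    simp [uEl, wEl, Matrix.mul_apply, Fin.sum_univ_two, CharTwo.add_self_eq_zero]

theorem exists_sq_unit [Finite K] (t : Kˣ) : ∃ a : Kˣ, a * a = t := by
  obtain ⟨b, hb⟩ := FiniteField.isSquare_of_char_two (F := K) (ringChar.eq K 2) (t : K)
  have hb0 : b ≠ 0 := fun h => t.ne_zero (by rw [hb, h, zero_mul])
  exact ⟨Units.mk0 b hb0, Units.ext (by simp [hb])⟩

/-- Bruhat decomposition, in the form needed below. -/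
theorem decompose (g : SpecialLinearGroup (Fin 2) K) :
    (∃ (a : Kˣ) (t : K), g = hEl a * uEl t) ∨
      ∃ (s : K) (a : Kˣ) (t : K), g = uEl s * (wEl * (hEl a * uEl t)) := by
  obtain ⟨a, b, c, d, hdet, hg⟩ : ∃ a b c d : K, a * d - b * c = 1 ∧
      g.val = !![a, b; c, d] :=
    ⟨g.1 0 0, g.1 0 1, g.1 1 0, g.1 1 1, by rw [← Matrix.det_fin_two, g.2],
      Matrix.eta_fin_two _⟩
  by_cases hc : c = 0
  · subst hc
    have hd : a * d = 1 := by simpa using hdet
    have ha : a ≠ 0 := left_ne_zero_of_mul_eq_one hd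
    refine Or.inl ⟨Units.mk0 a ha, b / a, Subtype.ext ?_⟩
    rw [hg, val_mul]
    ext i j
    fin_cases i <;> fin_cases j <;> simp [hEl, uEl, Matrix.mul_apply, Fin.sum_univ_two]
    · field_simp
    · field_simp
      linear_combination hd
  · refine Or.inr ⟨a / c, Units.mk0 c hc, d / c, Subtype.ext ?_⟩
    rw [hg, val_mul, val_mul, val_mul]
    rw [CharTwo.sub_eq_add] at hdet
    have h2z : (2 : K) = 0 := CharTwo.two_eq_zero
    ext i j
    fin_cases i <;> fin_cases j <;>
      simp [hEl, uEl, wEl, Matrix.mul_apply, Fin.sum_univ_two] <;> field_simp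
    linear_combination hdet - (a * d) * h2z

/-- An element of order three is conjugate to `xEl`. -/
theorem exists_conj_xEl [Finite K] (g : SpecialLinearGroup (Fin 2) K) (h3 : g ^ 3 = 1)
    (h1 : g ≠ 1) : ∃ P : SpecialLinearGroup (Fin 2) K, P * g = xEl * P := by
  obtain ⟨a, b, c, d, hdet, hg⟩ : ∃ a b c d : K, a * d - b * c = 1 ∧
      g.val = !![a, b; c, d] :=
    ⟨g.1 0 0, g.1 0 1, g.1 1 0, g.1 1 1, by rw [← Matrix.det_fin_two, g.2],
      Matrix.eta_fin_two _⟩
  have h2z : (2 : K) = 0 := CharTwo.two_eq_zero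
  have hcube : g.val * (g.val * g.val) = 1 := by
    have := congrArg Subtype.val h3
    rw [pow_succ, pow_two, mul_assoc, val_mul, val_mul,
      val_one] at this
    exact this
  rw [hg] at hcube
  simp [Matrix.one_fin_two] at hcube
  obtain ⟨⟨e00, e01⟩, e10, e11⟩ := hcube
  have htr : a + d = 1 := by
    by_contra hne
    have hk : (a + d) + 1 ≠ 0 := fun h => hne (by
      linear_combination h - h2z)
    have hb : b = 0 := by
      have : ((a + d) + 1) ^ 2 * b = 0 := by
        linear_combination e01 + b * hdet + (a * b + b * d + b) * h2z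
      simpa [hk] using this
    have hc : c = 0 := by
      have : ((a + d) + 1) ^ 2 * c = 0 := by
        linear_combination e10 + c * hdet + (a * c + c * d + c) * h2z
      simpa [hk] using this
    subst hb hc
    have had : a * d = 1 := by simpa using hdet
    have ha3 : a * (a * a) = 1 := by simpa using e00
    have hd3 : d * (d * d) = 1 := by simpa using e11
    apply h1
    have hd : d = a * a := by linear_combination (a * a) * had - d * ha3
    have ha1 : a = 1 := by
      by_contra hne1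
      have hfac : (a + -1) * (a * a + a + 1) = 0 := by linear_combination ha3
      rcases mul_eq_zero.mp hfac with h | h
      · exact hne1 (by linear_combination h)
      · exact hne (by rw [hd]; linear_combination h - h2z)
    apply Subtype.ext
    rw [hg, val_one, hd, ha1]
    simp [Matrix.one_fin_two]
  obtain ⟨x, y, hδ⟩ : ∃ x y : K, (x * a + y * c) * y - (x * b + y * d) * x ≠ 0 := by
    by_cases hb : b = 0
    · by_cases hc : c = 0
      · refine ⟨1, 1, fun h => ?_⟩
        subst hb hc
        exact one_ne_zero (α := K) (by linear_combination h - htr + d * h2z)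
      · exact ⟨0, 1, by simpa using hc⟩
    · exact ⟨1, 0, by simpa using hb⟩
  set δ := (x * a + y * c) * y - (x * b + y * d) * x with hδd
  obtain ⟨s, hs⟩ := exists_sq_unit (Units.mk0 δ hδ)⁻¹
  have hs' : (s : K) * s * δ = 1 := by
    have := congrArg (fun z : Kˣ => (z : K)) hs
    simp at this
    rw [this]
    field_simp
  refine ⟨⟨!![(s : K) * (x * a + y * c), s * (x * b + y * d); s * x, s * y], ?_⟩, ?_⟩
  · rw [Matrix.det_fin_two_of, ← hs', hδd]
    ring
  · apply Subtype.ext
    show _ * g.val = xEl.val * _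
    rw [hg, xEl_val]
    rw [CharTwo.sub_eq_add] at hdet
    ext i j
    fin_cases i <;> fin_cases j <;>
      simp [Matrix.mul_apply, Fin.sum_univ_two]
    · linear_combination (s : K) * x * hdet + (s : K) * (x * a + y * c) * htr -
        (s : K) * x * a * d * h2z + (s : K) * x * h2z * 0
    · linear_combination (s : K) * y * hdet + (s : K) * (x * b + y * d) * htr -
        (s : K) * y * a * d * h2z
    · ring
    · ring

section Module

variable {M : Type*} [AddCommGroup M]
variable (r : SpecialLinearGroup (Fin 2) K →* AddMonoid.End M)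

theorem act_mul (g h : SpecialLinearGroup (Fin 2) K) (m : M) : r (g * h) m = r g (r h m) := by
  rw [map_mul]
  rfl

theorem act_one (m : M) : r 1 m = m := by
  rw [map_one]
  rfl

theorem act_inj (g : SpecialLinearGroup (Fin 2) K) {m m' : M} (h : r g m = r g m') : m = m' := by
  rw [← act_one r m, ← act_one r m', ← inv_mul_cancel g, act_mul, act_mul, h]

/-- the points fixed by all of `U` -/
def fixU : AddSubgroup M where
  carrier := {m | ∀ t : K, r (uEl t) m = m}
  zero_mem' t := map_zero _
  add_mem' {a b} ha hb t := by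
    show r (uEl t) (a + b) = a + b
    rw [map_add, ha t, hb t]
  neg_mem' {a} ha t := by
    show r (uEl t) (-a) = -a
    rw [map_neg, ha t]

theorem mem_fixU {m : M} : m ∈ fixU r ↔ ∀ t : K, r (uEl t) m = m := Iff.rfl

theorem hEl_mem_fixU {m : M} (hm : m ∈ fixU r) (a : Kˣ) : r (hEl a) m ∈ fixU r := by
  intro t
  have : uEl t * hEl a = hEl a * uEl (((a⁻¹ : Kˣ) : K) * ((a⁻¹ : Kˣ) : K) * t) := by
    rw [hEl_mul_uEl]
    congr 2
    simp
    field_simp
  rw [← act_mul, this, act_mul, hm]

theorem hEl_u_swap (a : Kˣ) (t : K) (m : M) :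
    r (uEl ((a : K) * a * t)) (r (hEl a) m) = r (hEl a) (r (uEl t) m) := by
  rw [← act_mul, ← act_mul, hEl_mul_uEl]

variable (hfix : ∀ m : M, r xEl m = m → m = 0)

include hfix in
/-- the basic identity -/
theorem key [Finite K] (t : Kˣ) (m : M) :
    r (hEl t) m + r (uEl (t : K)) (r wEl m) + r wEl (r (uEl ((t⁻¹ : Kˣ) : K)) m) = 0 := by
  have hsum : ∀ m : M, m + r xEl m + r (xEl * xEl) m = 0 := by
    intro m
    apply hfix
    rw [map_add, map_add, ← act_mul, ← act_mul, xEl_cube, act_one]
    abel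
  obtain ⟨a, ha⟩ := exists_sq_unit t
  have e1 : hEl a * (xEl * hEl a) = uEl (t : K) * wEl := by
    rw [xEl, mul_assoc (uEl 1), wEl_mul_hEl, ← mul_assoc (hEl a), hEl_mul_uEl,
      mul_assoc (uEl _), ← mul_assoc (hEl a) (hEl a⁻¹), hEl_mul, mul_inv_cancel, hEl_one, one_mul,
      mul_one, ← Units.val_mul, ha]
  have e2 : hEl a * (xEl * xEl * hEl a) = wEl * uEl ((t⁻¹ : Kˣ) : K) := by
    have e : hEl a * wEl = wEl * hEl a⁻¹ := by rw [wEl_mul_hEl, inv_inv]
    rw [xEl_sq, ← mul_assoc, ← mul_assoc, e, mul_assoc wEl, hEl_mul_uEl, mul_assoc wEl,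
      mul_assoc (uEl _), hEl_mul, inv_mul_cancel, hEl_one, mul_one, mul_one, ← Units.val_mul,
      ← mul_inv, ha]
  have h := congrArg (r (hEl a)) (hsum (r (hEl a) m))
  rw [map_add, map_add, map_zero, ← act_mul, hEl_mul, ha, ← act_mul, ← act_mul, ← act_mul,
    ← act_mul, mul_assoc (hEl a) xEl (hEl a), mul_assoc (hEl a) (xEl * xEl) (hEl a), e1, e2,
    act_mul, act_mul] at h
  exact h

theorem w_w (m : M) : r wEl (r wEl m) = m := by rw [← act_mul, wEl_mul_wEl, act_one]

theorem h_h (a b : Kˣ) (m : M) : r (hEl a) (r (hEl b) m) = r (hEl (a * b)) m := by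
  rw [← act_mul, hEl_mul]

theorem w_h (a : Kˣ) (m : M) : r wEl (r (hEl a) m) = r (hEl a⁻¹) (r wEl m) := by
  rw [← act_mul, ← act_mul, wEl_mul_hEl]

theorem u_u (s t : K) (m : M) : r (uEl s) (r (uEl t) m) = r (uEl (s + t)) m := by
  rw [← act_mul, uEl_mul]

include hfix in
theorem u_w_fixU [Finite K] {c : M} (hc : c ∈ fixU r) (t : Kˣ) :
    r (uEl (t : K)) (r wEl c) = -r (hEl t) c - r wEl c := by
  have h := key r hfix t c
  rw [hc] at h
  rw [add_assoc] at h
  have := eq_neg_of_add_eq_zero_right h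
  rw [eq_sub_iff_add_eq, this]

variable (h2 : ∀ m : M, ∃ k : ℕ, (2 : ℕ) ^ k • m = 0)

include h2 in
theorem eq_zero_of_three_nsmul {m : M} (h : (3 : ℕ) • m = 0) : m = 0 := by
  obtain ⟨k, hk⟩ := h2 m
  have ha : addOrderOf m ∣ 3 := addOrderOf_dvd_of_nsmul_eq_zero h
  have hb : addOrderOf m ∣ 2 ^ k := addOrderOf_dvd_of_nsmul_eq_zero hk
  have hc : Nat.Coprime 3 (2 ^ k) := Nat.Coprime.pow_right k (by norm_num)
  exact AddMonoid.addOrderOf_eq_one_iff.mp (Nat.eq_one_of_dvd_coprimes hc ha hb)

include hfix h2 in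
theorem eq_zero_of_mem_fixU [Finite K] {c : M} (hc : c ∈ fixU r) (hwc : r wEl c ∈ fixU r) :
    c = 0 := by
  have h1 : r wEl c = -c - r wEl c := by
    have := u_w_fixU r hfix hc 1
    rwa [hwc, hEl_one, act_one] at this
  have h1' : c = -r wEl c - c := by
    have := u_w_fixU r hfix hwc 1
    rwa [w_w, hc, hEl_one, act_one] at this
  apply eq_zero_of_three_nsmul h2
  have e1 : r wEl c = -c - c := by
    nth_rewrite 2 [h1']
    abel
  rw [e1] at h1
  calc (3 : ℕ) • c = -((-c - c) - (-c - (-c - c))) := by abel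
    _ = 0 := by rw [← h1]; abel

end Module

end CfsgLib.HigmanSL2
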