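import Cfsg.Agent.HigmanSL2.Module

/-!
# The structure theorem

With the hypotheses of `HigmanSL2.Module` and `4 ≤ |K|`: `M = C ⊕ w C` with `C = fixU r`, both of
exponent 2, `C` is a vector space over `K`, and `M` is a direct sum of natural modules.
-/

namespace CfsgLib.HigmanSL2

open Matrix

variable {K : Type*} [Field K] [CharP K 2] [Finite K]
variable {M : Type*} [AddCommGroup M]
variable (r : SpecialLinearGroup (Fin 2) K →* AddMonoid.End M)

/-- the standing hypotheses -/
structure IsFpf : Prop where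
  fix : ∀ m : M, r xEl m = m → m = 0
  two : ∀ m : M, ∃ k : ℕ, (2 : ℕ) ^ k • m = 0
  big : 2 < Nat.card K

variable {r}

namespace IsFpf

variable (H : IsFpf r)

include H in
theorem exists_unit_ne_one : ∃ a : Kˣ, a ≠ 1 := by
  classical
  have : Fintype K := Fintype.ofFinite K
  have hlt : 1 < Fintype.card Kˣ := by
    rw [Fintype.card_units, ← Nat.card_eq_fintype_card]
    have := H.big
    omega
  exact Fintype.exists_ne_of_one_lt_card hlt 1

omit [Finite K] in
theorem u_eq_self {c : M} (hc : c ∈ fixU r) (t : K) : r (uEl t) c = c := hc t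

include H in
theorem add_self {c : M} (hc : c ∈ fixU r) : c + c = 0 := by
  obtain ⟨a, ha⟩ := H.exists_unit_ne_one
  have hne : (1 : K) + a ≠ 0 := fun h => ha (Units.ext (by
    rw [Units.val_one]
    linear_combination h - (CharTwo.two_eq_zero : (2 : K) = 0)))
  set b : Kˣ := Units.mk0 _ hne
  have h1 : r (uEl (1 : K)) (r wEl c) = -c - r wEl c := by
    simpa [hEl_one, act_one] using u_w_fixU r H.fix hc 1
  have h := u_u r 1 (a : K) (r wEl c)
  rw [u_w_fixU r H.fix hc a, show (1 : K) + a = (b : K) from rfl, u_w_fixU r H.fix hc b, map_sub,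
    map_neg, u_eq_self (hEl_mem_fixU r hc a), h1] at h
  have h' : r wEl (c + c) = r (hEl a) c - c - r (hEl b) c := by
    rw [map_add]
    calc r wEl c + r wEl c
        = (-r (hEl a) c - (-c - r wEl c)) + r wEl c + r (hEl a) c - c := by abel
      _ = (-r (hEl b) c - r wEl c) + r wEl c + r (hEl a) c - c := by rw [h]
      _ = r (hEl a) c - c - r (hEl b) c := by abel
  refine eq_zero_of_mem_fixU r H.fix H.two (add_mem hc hc) ?_
  rw [h']
  exact sub_mem (sub_mem (hEl_mem_fixU r hc a) hc) (hEl_mem_fixU r hc b)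

include H in
theorem neg_eq {c : M} (hc : c ∈ fixU r) : -c = c := neg_eq_of_add_eq_zero_left (H.add_self hc)

include H in
theorem w_neg {c : M} (hc : c ∈ fixU r) : -r wEl c = r wEl c := by rw [← map_neg, H.neg_eq hc]

include H in
theorem u_w {c : M} (hc : c ∈ fixU r) (t : Kˣ) :
    r (uEl (t : K)) (r wEl c) = r wEl c + r (hEl t) c := by
  rw [u_w_fixU r H.fix hc t, sub_eq_add_neg, H.neg_eq (hEl_mem_fixU r hc t), H.w_neg hc, add_comm]

variable (r) in
/-- scalar multiplication on `fixU r` -/
def sc (t : K) (c : M) : M := r (uEl t) (r wEl c) - r wEl c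

omit [Finite K] in
theorem sc_zero_left (c : M) : sc r 0 c = 0 := by simp [sc, uEl_zero, act_one]

omit [Finite K] in
theorem sc_add_right (t : K) (c d : M) : sc r t (c + d) = sc r t c + sc r t d := by
  simp only [sc, map_add]
  abel

include H in
theorem sc_unit {c : M} (hc : c ∈ fixU r) (t : Kˣ) : sc r (t : K) c = r (hEl t) c := by
  rw [sc, H.u_w hc]
  abel

include H in
theorem sc_mem {c : M} (hc : c ∈ fixU r) (t : K) : sc r t c ∈ fixU r := by
  by_cases ht : t = 0
  · subst ht
    rw [sc_zero_left]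
    exact zero_mem _
  · rw [← Units.val_mk0 ht, H.sc_unit hc]
    exact hEl_mem_fixU r hc _

include H in
theorem sc_one {c : M} (hc : c ∈ fixU r) : sc r (1 : K) c = c := by
  rw [← Units.val_one, H.sc_unit hc, hEl_one, act_one]

include H in
theorem sc_mul {c : M} (hc : c ∈ fixU r) (s t : K) : sc r (s * t) c = sc r s (sc r t c) := by
  by_cases hs : s = 0
  · subst hs
    rw [zero_mul, sc_zero_left, sc_zero_left]
  by_cases ht : t = 0
  · subst ht
    rw [mul_zero, sc_zero_left]
    simp [sc]
  rw [← Units.val_mk0 hs, ← Units.val_mk0 ht, ← Units.val_mul, H.sc_unit hc, H.sc_unit hc,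
    H.sc_unit (hEl_mem_fixU r hc _), h_h]

include H in
theorem sc_add {c : M} (hc : c ∈ fixU r) (s t : K) : sc r (s + t) c = sc r s c + sc r t c := by
  have h1 : r (uEl (s + t)) (r wEl c) = r (uEl s) (sc r t c + r wEl c) := by
    rw [← u_u, sc, sub_add_cancel]
  show r (uEl (s + t)) (r wEl c) - r wEl c = _
  rw [h1, map_add, u_eq_self (H.sc_mem hc t)]
  show sc r t c + r (uEl s) (r wEl c) - r wEl c = sc r s c + sc r t c
  simp only [sc]
  abel

variable (r) in
/-- the sum of the natural submodules -/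
def natPart : AddSubgroup M := fixU r ⊔ (fixU r).map (r wEl : M →+ M)

omit [Finite K] in
theorem mem_natPart {m : M} :
    m ∈ natPart r ↔ ∃ a ∈ fixU r, ∃ b ∈ fixU r, m = a + r wEl b := by
  simp only [natPart, AddSubgroup.mem_sup, AddSubgroup.mem_map]
  constructor
  · rintro ⟨a, ha, _, ⟨b, hb, rfl⟩, rfl⟩
    exact ⟨a, ha, b, hb, rfl⟩
  · rintro ⟨a, ha, b, hb, rfl⟩
    exact ⟨a, ha, _, ⟨b, hb, rfl⟩, rfl⟩

include H in
theorem add_self_natPart {m : M} (hm : m ∈ natPart r) : m + m = 0 := by
  obtain ⟨a, ha, b, hb, rfl⟩ := mem_natPart.mp hm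
  rw [add_add_add_comm, H.add_self ha, ← map_add, H.add_self hb, map_zero, add_zero]

include H in
theorem act_mem_natPart (g : SpecialLinearGroup (Fin 2) K) {m : M} (hm : m ∈ natPart r) :
    r g m ∈ natPart r := by
  have hw : ∀ {m : M}, m ∈ natPart r → r wEl m ∈ natPart r := by
    intro m hm
    obtain ⟨a, ha, b, hb, rfl⟩ := mem_natPart.mp hm
    exact mem_natPart.mpr ⟨b, hb, a, ha, by rw [map_add, w_w, add_comm]⟩
  have hh : ∀ (u : Kˣ) {m : M}, m ∈ natPart r → r (hEl u) m ∈ natPart r := by
    intro u m hm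
    obtain ⟨a, ha, b, hb, rfl⟩ := mem_natPart.mp hm
    refine mem_natPart.mpr ⟨_, hEl_mem_fixU r ha u, _, hEl_mem_fixU r hb u⁻¹, ?_⟩
    rw [map_add, w_h, inv_inv]
  have hu : ∀ (t : K) {m : M}, m ∈ natPart r → r (uEl t) m ∈ natPart r := by
    intro t m hm
    obtain ⟨a, ha, b, hb, rfl⟩ := mem_natPart.mp hm
    refine mem_natPart.mpr ⟨a + sc r t b, add_mem ha (H.sc_mem hb t), b, hb, ?_⟩
    rw [map_add, u_eq_self ha, sc]
    abel
  rcases decompose g with ⟨u, t, rfl⟩ | ⟨s, u, t, rfl⟩
  · rw [act_mul]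
    exact hh u (hu t hm)
  · rw [act_mul, act_mul, act_mul]
    exact hu s (hw (hh u (hu t hm)))

include H in
theorem eq_zero_of_fix_add {a b : M} (ha : a ∈ fixU r) (hb : b ∈ fixU r) (h : a + r wEl b = 0) :
    a = 0 ∧ b = 0 := by
  have hb0 : b = 0 := eq_zero_of_mem_fixU r H.fix H.two hb (by
    rw [eq_neg_of_add_eq_zero_right h]
    exact neg_mem ha)
  exact ⟨by rwa [hb0, map_zero, add_zero] at h, hb0⟩

include H in
theorem component_eq {a b c d : M} (ha : a ∈ fixU r) (hb : b ∈ fixU r) (hc : c ∈ fixU r)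
    (hd : d ∈ fixU r) (h : a + r wEl b = c + r wEl d) : a = c ∧ b = d := by
  have := H.eq_zero_of_fix_add (sub_mem ha hc) (sub_mem hb hd) (by
    rw [map_sub]
    calc a - c + (r wEl b - r wEl d) = (a + r wEl b) - (c + r wEl d) := by abel
      _ = 0 := sub_eq_zero.mpr h)
  exact ⟨sub_eq_zero.mp this.1, sub_eq_zero.mp this.2⟩

/-! ### The quotient by the natural part -/

variable (r) in
/-- the induced action on the quotient -/
def quotRep (hN : ∀ g, ∀ m ∈ natPart r, r g m ∈ natPart r) :
    SpecialLinearGroup (Fin 2) K →* AddMonoid.End (M ⧸ natPart r) where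
  toFun g := QuotientAddGroup.map (natPart r) (natPart r) (r g) fun m hm => hN g m hm
  map_one' := by
    refine AddMonoidHom.ext fun q => ?_
    induction q using QuotientAddGroup.induction_on with
    | H m =>
    show ((r 1 m : M) : M ⧸ natPart r) = (m : M ⧸ natPart r)
    rw [act_one]
  map_mul' g h := by
    refine AddMonoidHom.ext fun q => ?_
    induction q using QuotientAddGroup.induction_on with
    | H m =>
    show ((r (g * h) m : M) : M ⧸ natPart r) = ((r g (r h m) : M) : M ⧸ natPart r)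
    rw [act_mul]

include H in
theorem quot_isFpf : IsFpf (quotRep r fun g _ hm => H.act_mem_natPart g hm) where
  big := H.big
  two m := by
    induction m using QuotientAddGroup.induction_on with
    | H m =>
      obtain ⟨k, hk⟩ := H.two m
      exact ⟨k, by rw [← QuotientAddGroup.mk_nsmul, hk, QuotientAddGroup.mk_zero]⟩
  fix m := by
    induction m using QuotientAddGroup.induction_on with
    | H m =>
      intro h
      rw [QuotientAddGroup.eq_zero_iff]
      have h1 : -r xEl m + m ∈ natPart r := QuotientAddGroup.eq.mp h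
      have h2 : -r (xEl * xEl) m + r xEl m ∈ natPart r := by
        have := H.act_mem_natPart xEl h1
        rwa [map_add, map_neg, ← act_mul] at this
      have hsum : m + r xEl m + r (xEl * xEl) m = 0 := by
        apply H.fix
        rw [map_add, map_add, ← act_mul, ← act_mul, xEl_cube, act_one]
        abel
      have h3 : (3 : ℕ) • m ∈ natPart r := by
        have h4 := add_mem (add_mem h1 h1) h2
        convert h4 using 1
        calc (3 : ℕ) • m = (3 : ℕ) • m - (m + r xEl m + r (xEl * xEl) m) := by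
              rw [hsum, sub_zero]
          _ = _ := by abel
      obtain ⟨k, hk⟩ := H.two m
      obtain ⟨i, j, hij⟩ : ∃ i j : ℤ, i * 3 + j * (2 ^ k : ℕ) = 1 := by
        have hc : Nat.Coprime 3 (2 ^ k) := Nat.Coprime.pow_right k (by norm_num)
        refine ⟨Nat.gcdA 3 (2 ^ k), Nat.gcdB 3 (2 ^ k), ?_⟩
        have := Nat.gcd_eq_gcd_ab 3 (2 ^ k)
        rw [hc.gcd_eq_one] at this
        push_cast at this ⊢
        linarith
      have : m = i • ((3 : ℕ) • m) := by
        calc m = (i * 3 + j * (2 ^ k : ℕ)) • m := by rw [hij, one_zsmul]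
          _ = i • ((3 : ℕ) • m) + j • ((2 ^ k) • m) := by
              rw [add_zsmul, mul_zsmul, mul_zsmul, natCast_zsmul]
              norm_num [← natCast_zsmul]
          _ = _ := by rw [hk, smul_zero, add_zero]
      rw [this]
      exact AddSubgroup.zsmul_mem _ h3 i

/-- the elements fixed by `U` modulo the natural part -/
def preFix (H : IsFpf r) : AddSubgroup M where
  carrier := {m | ∀ t : K, r (uEl t) m - m ∈ natPart r}
  zero_mem' t := by simp
  add_mem' {a b} ha hb t := by
    show r (uEl t) (a + b) - (a + b) ∈ natPart r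
    rw [map_add, add_sub_add_comm]
    exact add_mem (ha t) (hb t)
  neg_mem' {a} ha t := by
    show r (uEl t) (-a) - (-a) ∈ natPart r
    rw [map_neg, ← neg_sub']
    exact neg_mem (ha t)

theorem natPart_le_preFix : natPart r ≤ preFix H := fun _ hm _ =>
  sub_mem (H.act_mem_natPart _ hm) hm

theorem hEl_mem_preFix {v : M} (hv : v ∈ preFix H) (a : Kˣ) : r (hEl a) v ∈ preFix H := by
  intro t
  have ht : t = (a : K) * a * (((a⁻¹ : Kˣ) : K) * ((a⁻¹ : Kˣ) : K) * t) := by
    simp
    field_simp
  rw [congrArg uEl ht]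
  rw [hEl_u_swap, ← map_sub]
  exact H.act_mem_natPart _ (hv _)

theorem two_mem_natPart {v : M} (hv : v ∈ preFix H) : v + v ∈ natPart r := by
  have hf : (v : M ⧸ natPart r) ∈ fixU (quotRep r fun g _ hm => H.act_mem_natPart g hm) := by
    intro t
    show ((r (uEl t) v : M) : M ⧸ natPart r) = _
    exact QuotientAddGroup.eq_iff_sub_mem.mpr (hv t)
  have := H.quot_isFpf.add_self hf
  rwa [← QuotientAddGroup.mk_add, QuotientAddGroup.eq_zero_iff] at this

theorem exists_preFix [Finite M] (h : natPart r ≠ ⊤) : ∃ v ∈ preFix H, v ∉ natPart r := by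
  classical
  set rq := quotRep r fun g _ hm => H.act_mem_natPart g hm
  letI : MulAction (Multiplicative K) (M ⧸ natPart r) :=
    { smul := fun t m => rq (uEl t.toAdd) m
      one_smul := fun m => by
        show rq (uEl 0) m = m
        rw [uEl_zero, act_one]
      mul_smul := fun s t m => by
        show rq (uEl (s.toAdd + t.toAdd)) m = rq _ (rq _ m)
        rw [u_u] }
  haveI : Fact (Nat.Prime 2) := ⟨Nat.prime_two⟩
  have hK : IsPGroup 2 (Multiplicative K) := IsPGroup.of_card (n := (Nat.card K).factorization 2) (by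
    haveI : Fintype K := Fintype.ofFinite K
    obtain ⟨n, _, hn⟩ := FiniteField.card K 2
    show Nat.card K = _
    rw [Nat.card_eq_fintype_card, hn, Nat.Prime.factorization_pow Nat.prime_two]
    simp)
  haveI : Nontrivial (M ⧸ natPart r) := by
    obtain ⟨m, hm⟩ : ∃ m, m ∉ natPart r := by
      by_contra hh
      push Not at hh
      exact h (eq_top_iff.mpr fun m _ => hh m)
    exact ⟨⟨(m : M ⧸ natPart r), 0, fun e => hm ((QuotientAddGroup.eq_zero_iff m).mp e)⟩⟩
  have hdvd : 2 ∣ Nat.card (M ⧸ natPart r) := by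
    obtain ⟨p, hp, hpd⟩ := Nat.exists_prime_and_dvd
      (Finite.one_lt_card (α := M ⧸ natPart r)).ne'
    haveI := Fact.mk hp
    obtain ⟨m, hm⟩ := exists_prime_addOrderOf_dvd_card' p hpd
    obtain ⟨k, hk⟩ := H.quot_isFpf.two m
    have : p ∣ 2 ^ k := hm ▸ addOrderOf_dvd_of_nsmul_eq_zero hk
    rwa [(Nat.prime_dvd_prime_iff_eq hp Nat.prime_two).mp (hp.dvd_of_dvd_pow this)] at hpd
  have hz : (0 : M ⧸ natPart r) ∈ MulAction.fixedPoints (Multiplicative K) (M ⧸ natPart r) :=
    fun t => map_zero (rq (uEl t.toAdd))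
  obtain ⟨w, hw, hw0⟩ := hK.exists_fixed_point_of_prime_dvd_card_of_fixed_point _ hdvd hz
  obtain ⟨v, rfl⟩ := QuotientAddGroup.mk_surjective w
  refine ⟨v, fun t => QuotientAddGroup.eq_iff_sub_mem.mp (hw (Multiplicative.ofAdd t)), fun hv => ?_⟩
  exact hw0 ((QuotientAddGroup.eq_zero_iff v).mpr hv).symm

end IsFpf

end CfsgLib.HigmanSL2
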