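import Cfsg.Agent.HigmanSL2.Natural

/-!
# `M` is the natural part
-/

namespace CfsgLib.HigmanSL2.IsFpf

open Matrix

variable {K : Type*} [Field K] [CharP K 2] [Finite K]
variable {M : Type*} [AddCommGroup M]
variable {r : SpecialLinearGroup (Fin 2) K →* AddMonoid.End M}
variable (H : IsFpf r)

variable (r) in
/-- displacement by `u(t)` -/
def disp (t : K) (v : M) : M := r (uEl t) v - v

omit [Finite K] in
theorem disp_zero (v : M) : disp r 0 v = 0 := by simp [disp, uEl_zero, act_one]

omit [Finite K] in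
theorem u_eq_add_disp (t : K) (v : M) : r (uEl t) v = v + disp r t v := by simp [disp]

omit [Finite K] in
theorem disp_add_right (t : K) (u v : M) : disp r t (u + v) = disp r t u + disp r t v := by
  simp only [disp, map_add]
  abel

include H in
theorem w_add_self_natPart {m : M} (hm : m ∈ natPart r) : -m = m :=
  neg_eq_of_add_eq_zero_left (H.add_self_natPart hm)

/-- displacements of elements of `preFix` lie in `fixU` -/
theorem disp_mem {v : M} (hv : v ∈ preFix H) (t : K) : disp r t v ∈ fixU r := by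
  by_cases ht : t = 0
  · subst ht
    rw [disp_zero]
    exact zero_mem _
  set u : Kˣ := Units.mk0 t ht
  set x := r (hEl u⁻¹) v with hx
  have hxP : x ∈ preFix H := H.hEl_mem_preFix hv _
  obtain ⟨a, ha, b, hb, hab⟩ := mem_natPart.mp (hxP ((u⁻¹ : Kˣ) : K))
  have k := key r H.fix u x
  rw [hx, h_h, mul_inv_cancel, hEl_one, act_one, ← hx,
    show r (uEl ((u⁻¹ : Kˣ) : K)) x = x + (a + r wEl b) by rw [← hab]; abel] at k
  rw [map_add, map_add, w_w] at k
  have k2 : r (uEl (u : K)) (r wEl x) = -v - r wEl x - r wEl a - b :=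
    calc r (uEl (u : K)) (r wEl x)
        = (v + r (uEl (u : K)) (r wEl x) + (r wEl x + (r wEl a + b)))
            - v - r wEl x - r wEl a - b := by abel
      _ = _ := by rw [k]; abel
  have k3 := congrArg (r (uEl (u : K))) k2
  rw [u_u, CharTwo.add_self_eq_zero, uEl_zero, act_one, map_sub, map_sub, map_sub, map_neg, k2,
    H.u_w ha, u_eq_self hb] at k3
  have hd : disp r (u : K) v = -r (hEl u) a :=
    calc disp r (u : K) v
        = r wEl x - (-r (uEl (u : K)) v - (-v - r wEl x - r wEl a - b)
            - (r wEl a + r (hEl u) a) - b) - r (hEl u) a := by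
          simp only [disp]
          abel
      _ = _ := by rw [← k3, sub_self, zero_sub]
  rw [show t = (u : K) from rfl, hd]
  exact neg_mem (hEl_mem_fixU r ha u)

theorem disp_add_left {v : M} (hv : v ∈ preFix H) (s t : K) :
    disp r (s + t) v = disp r s v + disp r t v := by
  conv_lhs => rw [disp, ← u_u, u_eq_add_disp t, map_add, u_eq_self (H.disp_mem hv t)]
  simp only [disp]
  abel

/-- displacement as an additive map -/
def dispHom {v : M} (hv : v ∈ preFix H) : K →+ M :=
  AddMonoidHom.mk' (fun t => disp r t v) (H.disp_add_left hv)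

/-- the key formula on `preFix` -/
theorem u_w_preFix {v : M} (hv : v ∈ preFix H) (t : Kˣ) :
    r (uEl (t : K)) (r wEl v) =
      -r (hEl t) v - r wEl v + r wEl (disp r ((t⁻¹ : Kˣ) : K) v) := by
  have k := key r H.fix t v
  rw [u_eq_add_disp _ v, map_add] at k
  have hc := H.disp_mem hv ((t⁻¹ : Kˣ) : K)
  calc r (uEl (t : K)) (r wEl v)
      = (r (hEl t) v + r (uEl (t : K)) (r wEl v) +
          (r wEl v + r wEl (disp r ((t⁻¹ : Kˣ) : K) v))) - r (hEl t) v - r wEl v
          + (-r wEl (disp r ((t⁻¹ : Kˣ) : K) v)) := by abel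
    _ = _ := by rw [k, zero_sub, H.w_neg hc]

theorem two_mem_fixU {v : M} (hv : v ∈ preFix H) : v + v ∈ fixU r := by
  intro t
  rw [u_eq_add_disp, disp_add_right, H.add_self (H.disp_mem hv t), add_zero]

/-- a torus-equivariant projection of `preFix` to the `w`-component -/
theorem exists_proj [Finite M] : ∃ σ : M → M,
    (∀ v ∈ preFix H, σ v ∈ fixU r) ∧
    (∀ v ∈ preFix H, ∀ w ∈ preFix H, σ (v + w) = σ v + σ w) ∧
    (∀ a ∈ fixU r, ∀ b ∈ fixU r, σ (a + r wEl b) = b) ∧
    (∀ (c : Kˣ), ∀ v ∈ preFix H, σ (r (hEl c) v) = r (hEl c⁻¹) (σ v)) := by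
  classical
  haveI : Fintype K := Fintype.ofFinite K
  set N := preFix H with hN
  set C := (fixU r).addSubgroupOf N with hC
  have h2Q : ∀ q : ↥N ⧸ C, 2 • q = 0 := by
    intro q
    induction q using QuotientAddGroup.induction_on with
    | H v =>
      rw [← QuotientAddGroup.mk_nsmul, QuotientAddGroup.eq_zero_iff, two_nsmul]
      exact H.two_mem_fixU v.2
  have h2C : ∀ c : ↥(fixU r), 2 • c = 0 := fun c => by
    rw [two_nsmul]
    exact Subtype.ext (H.add_self c.2)
  letI : Module (ZMod 2) (↥N ⧸ C) := AddCommGroup.zmodModule h2Q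
  letI : Module (ZMod 2) ↥(fixU r) := AddCommGroup.zmodModule h2C
  have hwN : ∀ b : ↥(fixU r), r wEl (b : M) ∈ N := fun b =>
    H.natPart_le_preFix (mem_natPart.mpr ⟨0, zero_mem _, b, b.2, (zero_add _).symm⟩)
  let j₀ : ↥(fixU r) →+ ↥N ⧸ C := AddMonoidHom.mk'
    (fun b => QuotientAddGroup.mk' C ⟨r wEl (b : M), hwN b⟩) fun a b => by
      rw [← map_add]
      congr 1
      exact Subtype.ext (map_add (r wEl) _ _)
  let j := j₀.toZModLinearMap 2
  have hj : LinearMap.ker j = ⊥ := by
    rw [LinearMap.ker_eq_bot']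
    intro b hb
    have : (⟨r wEl (b : M), hwN b⟩ : ↥N) ∈ C := (QuotientAddGroup.eq_zero_iff _).mp hb
    exact Subtype.ext (eq_zero_of_mem_fixU r H.fix H.two b.2 this)
  obtain ⟨L, hL⟩ := j.exists_leftInverse_of_injective hj
  let σ₀ : ↥N →+ M := ((fixU r).subtype.comp L.toAddMonoidHom).comp (QuotientAddGroup.mk' C)
  have hσC : ∀ (a : M) (ha : a ∈ N), a ∈ fixU r → σ₀ ⟨a, ha⟩ = 0 := by
    intro a ha haC
    show ((L (QuotientAddGroup.mk' C ⟨a, ha⟩) : ↥(fixU r)) : M) = 0
    rw [show QuotientAddGroup.mk' C ⟨a, ha⟩ = 0 from (QuotientAddGroup.eq_zero_iff _).mpr haC,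
      map_zero]
    rfl
  have hσw : ∀ b : ↥(fixU r), σ₀ ⟨r wEl (b : M), hwN b⟩ = (b : M) := by
    intro b
    have := LinearMap.congr_fun hL b
    show ((L (j b) : ↥(fixU r)) : M) = (b : M)
    exact congrArg Subtype.val this
  let σ₁ : M → M := fun v => if hv : v ∈ N then σ₀ ⟨v, hv⟩ else 0
  have h1 : ∀ v (hv : v ∈ N), σ₁ v = σ₀ ⟨v, hv⟩ := fun v hv => dif_pos hv
  have h1m : ∀ v, σ₁ v ∈ fixU r := by
    intro v
    simp only [σ₁]
    split
    · exact (L _).2
    · exact zero_mem _
  refine ⟨fun v => ∑ a : Kˣ, r (hEl a) (σ₁ (r (hEl a) v)), ?_, ?_, ?_, ?_⟩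
  · exact fun v _ => AddSubgroup.sum_mem _ fun a _ => hEl_mem_fixU r (h1m _) a
  · intro v hv w hw
    rw [← Finset.sum_add_distrib]
    refine Finset.sum_congr rfl fun a _ => ?_
    have hv' := H.hEl_mem_preFix hv a
    have hw' := H.hEl_mem_preFix hw a
    rw [← map_add (r (hEl a)), map_add, h1 _ (add_mem hv' hw'), h1 _ hv', h1 _ hw', ← map_add σ₀]
    rfl
  · intro a ha b hb
    have hterm : ∀ u : Kˣ, r (hEl u) (σ₁ (r (hEl u) (a + r wEl b))) = b := by
      intro u
      have hua := hEl_mem_fixU r ha u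
      have hub := hEl_mem_fixU r hb u⁻¹
      have e : r (hEl u) (a + r wEl b) = r (hEl u) a + r wEl (r (hEl u⁻¹) b) := by
        rw [map_add, w_h, inv_inv]
      have haN : r (hEl u) a ∈ N := H.natPart_le_preFix
        (mem_natPart.mpr ⟨_, hua, 0, zero_mem _, by rw [map_zero, add_zero]⟩)
      rw [e, h1 _ (add_mem haN (hwN ⟨_, hub⟩))]
      rw [show (⟨_, add_mem haN (hwN ⟨_, hub⟩)⟩ : ↥N) = ⟨_, haN⟩ + ⟨_, hwN ⟨_, hub⟩⟩ from rfl,
        map_add, hσC _ haN hua, zero_add, hσw ⟨_, hub⟩, h_h, mul_inv_cancel, hEl_one, act_one]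
    show ∑ u : Kˣ, _ = b
    rw [Finset.sum_congr rfl fun u _ => hterm u, Finset.sum_const, Finset.card_univ,
      Fintype.card_units]
    have heven : Fintype.card K % 2 = 0 :=
      FiniteField.even_card_iff_char_two.mp (ringChar.eq K 2)
    have hpos : 0 < Fintype.card K := Fintype.card_pos
    obtain ⟨k, hk⟩ : ∃ k, Fintype.card K - 1 = 2 * k + 1 := ⟨Fintype.card K / 2 - 1, by omega⟩
    rw [hk, add_nsmul, mul_nsmul, two_nsmul, H.add_self hb, nsmul_zero, zero_add, one_nsmul]
  · intro c v _
    show ∑ a : Kˣ, _ = r (hEl c⁻¹) (∑ a : Kˣ, _)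
    rw [map_sum]
    refine Fintype.sum_equiv (Equiv.mulRight c) _ _ fun a => ?_
    simp only [Equiv.coe_mulRight, h_h]
    rw [show c⁻¹ * (a * c) = a by rw [mul_comm a c, inv_mul_cancel_left]]

include H in
/-- **Complete reducibility**: `M` is the natural part. -/
theorem natPart_eq_top [Finite M] : natPart r = ⊤ := by
  classical
  haveI : Fintype K := Fintype.ofFinite K
  by_contra hne
  obtain ⟨v₀, hv₀, hv₀n⟩ := H.exists_preFix hne
  obtain ⟨σ, hσm, hσadd, hσnat, hσeq⟩ := H.exists_proj
  set P : AddSubgroup M :=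
    { carrier := {v | v ∈ preFix H ∧ σ v = 0}
      zero_mem' := ⟨zero_mem _, by
        have := hσadd 0 (zero_mem _) 0 (zero_mem _)
        rw [add_zero] at this
        exact left_eq_add.mp this⟩
      add_mem' := fun {a b} ha hb => ⟨add_mem ha.1 hb.1, by
        rw [hσadd a ha.1 b hb.1, ha.2, hb.2, add_zero]⟩
      neg_mem' := fun {a} ha => ⟨neg_mem ha.1, by
        have h0 : σ 0 = 0 := by
          have := hσadd 0 (zero_mem _) 0 (zero_mem _)
          rw [add_zero] at this
          exact left_eq_add.mp this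
        have := hσadd a ha.1 (-a) (neg_mem ha.1)
        rw [add_neg_cancel, h0, ha.2, zero_add] at this
        exact this.symm⟩ } with hP
  have hPh : ∀ {v : M}, v ∈ P → ∀ a : Kˣ, r (hEl a) v ∈ P := fun hv a =>
    ⟨H.hEl_mem_preFix hv.1 a, by rw [hσeq a _ hv.1, hv.2, map_zero]⟩
  have hPn : ∀ {m : M}, m ∈ natPart r → m ∈ P → m ∈ fixU r := by
    intro m hm hmP
    obtain ⟨a, ha, b, hb, rfl⟩ := mem_natPart.mp hm
    rw [← hσnat a ha b hb, hmP.2, map_zero, add_zero]
    exact ha
  obtain ⟨v, hvP, hvn⟩ : ∃ v ∈ P, v ∉ natPart r := by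
    have hs := hσm _ hv₀
    have hw : r wEl (σ v₀) ∈ natPart r :=
      mem_natPart.mpr ⟨0, zero_mem _, _, hs, (zero_add _).symm⟩
    refine ⟨v₀ + r wEl (σ v₀), ⟨add_mem hv₀ (H.natPart_le_preFix hw), ?_⟩,
      fun h => hv₀n ((AddSubgroup.add_mem_cancel_right _ hw).mp h)⟩
    rw [hσadd _ hv₀ _ (H.natPart_le_preFix hw)]
    have := hσnat 0 (zero_mem _) _ hs
    rw [zero_add] at this
    rw [this, H.add_self hs]
  set g : Kˣ → M → M := fun t w => disp r ((t⁻¹ : Kˣ) : K) w with hgdef
  have hg : ∀ {w : M}, w ∈ P → ∀ t : Kˣ, g t w ∈ fixU r := fun hw t => H.disp_mem hw.1 _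
  -- composing two of the key formulas
  have hcomp : ∀ {w : M}, w ∈ P → ∀ (s t z : Kˣ), (z : K) = (s : K) + t →
      r (hEl z) w + r (hEl s) w - r (hEl t) w ∈ fixU r ∧ w + w = g s w + g t w + g z w := by
    intro w hw s t z hz
    have e := u_u r (s : K) (t : K) (r wEl w)
    rw [H.u_w_preFix hw.1 t, ← hz, H.u_w_preFix hw.1 z, map_add, map_sub, map_neg,
      u_eq_add_disp (s : K) (r (hEl t) w), H.u_w_preFix hw.1 s, H.u_w (hg hw t) s] at e
    set E := r (hEl z) w + r (hEl s) w - r (hEl t) w with hE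
    set f := disp r (s : K) (r (hEl t) w) with hf'
    have hf : f ∈ fixU r := H.disp_mem (hPh hw t).1 _
    have hc : f - r (hEl s) (g t w) ∈ fixU r := sub_mem hf (hEl_mem_fixU r (hg hw t) s)
    have heq : E + r wEl (w + w + (g t w - g s w - g z w)) = f - r (hEl s) (g t w) := by
      rw [map_add, map_sub, map_sub, map_add]
      calc E + (r wEl w + r wEl w + (r wEl (g t w) - r wEl (g s w) - r wEl (g z w)))
          = (-(r (hEl t) w + f) - (-r (hEl s) w - r wEl w + r wEl (g s w))
              + (r wEl (g t w) + r (hEl s) (g t w)))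
            - (-r (hEl z) w - r wEl w + r wEl (g z w)) + f - r (hEl s) (g t w) := by
              rw [hE]
              abel
        _ = _ := by rw [e]; abel
    have hD : w + w + (g t w - g s w - g z w) ∈ fixU r :=
      add_mem (H.two_mem_fixU hw.1) (sub_mem (sub_mem (hg hw t) (hg hw s)) (hg hw z))
    have hEP : E ∈ P := sub_mem (add_mem (hPh hw z) (hPh hw s)) (hPh hw t)
    have hEn : E ∈ natPart r := mem_natPart.mpr
      ⟨_, hc, _, neg_mem hD, by rw [← heq, map_neg]; abel⟩
    have hEC := hPn hEn hEP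
    refine ⟨hEC, ?_⟩
    have h0 := (H.component_eq hEC hD hc (zero_mem _) (by rw [map_zero, add_zero]; exact heq)).2
    calc w + w = (w + w + (g t w - g s w - g z w)) + (g s w + g z w - g t w) := by abel
      _ = g s w + g t w + g z w := by
        rw [h0, zero_add, sub_eq_add_neg, H.neg_eq (hg hw t)]
        abel
  -- `P` has exponent two
  have h2 : ∀ {w : M}, w ∈ P → w + w = 0 := by
    intro w hw
    have hD := H.two_mem_fixU hw.1
    set G : K → M := fun t => (if t = 0 then 0 else w + w) + disp r t⁻¹ w with hG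
    have hG0 : G 0 = 0 := by simp [hG, disp_zero]
    have hGm : ∀ t, G t ∈ fixU r := by
      intro t
      refine add_mem ?_ (H.disp_mem hw.1 _)
      split
      · exact zero_mem _
      · exact hD
    have hGu : ∀ u : Kˣ, G u = w + w + g u w := fun u => by simp [hG, hgdef]
    have hGadd : ∀ s t, G (s + t) = G s + G t := by
      intro s t
      by_cases hs : s = 0
      · rw [hs, zero_add, hG0, zero_add]
      by_cases ht : t = 0
      · rw [ht, add_zero, hG0, add_zero]
      by_cases hst : s + t = 0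
      · have : t = s := by linear_combination hst - s * (CharTwo.two_eq_zero : (2 : K) = 0)
        rw [this, CharTwo.add_self_eq_zero, hG0, H.add_self (hGm s)]
      · have := (hcomp hw (Units.mk0 s hs) (Units.mk0 t ht) (Units.mk0 _ hst) rfl).2
        rw [← Units.val_mk0 hst, hGu]
        conv_rhs => rw [← Units.val_mk0 hs, ← Units.val_mk0 ht, hGu, hGu]
        set a := g (Units.mk0 s hs) w with ha
        set b := g (Units.mk0 t ht) w with hb
        set c := g (Units.mk0 _ hst) w with hc
        have hab : a + a = 0 := H.add_self (hg hw _)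
        have hbb : b + b = 0 := H.add_self (hg hw _)
        have hww : (w + w) + (w + w) = 0 := H.add_self hD
        calc w + w + c = (a + b + c) + (a + b + (w + w)) - (a + a) - (b + b) := by abel
          _ = _ := by rw [← this, hab, hbb]; abel
    have hsum : ∑ t : K, t = 0 := by
      have := FiniteField.sum_pow_lt_card_sub_one (K := K) 1 (by
        have := H.big
        rw [Nat.card_eq_fintype_card] at this
        omega)
      simpa using this
    have e1 : ∑ t : K, G t = 0 := by
      have h := map_sum (AddMonoidHom.mk' G hGadd) (fun t : K => t) Finset.univ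
      rw [hsum, map_zero] at h
      exact h.symm
    have e2 : ∑ t : K, disp r t⁻¹ w = 0 := by
      rw [Fintype.sum_equiv (Equiv.inv K) (fun t => disp r t⁻¹ w) (fun t => disp r t w)
        fun t => rfl]
      have h := map_sum (H.dispHom hw.1) (fun t : K => t) Finset.univ
      rw [hsum, map_zero] at h
      exact h.symm
    have e3 : ∑ t : K, (if t = 0 then (0 : M) else w + w) = w + w := by
      have hk : ∑ t : K, (w + w) = 0 := by
        rw [Finset.sum_const, Finset.card_univ]
        have heven : Fintype.card K % 2 = 0 :=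
          FiniteField.even_card_iff_char_two.mp (ringChar.eq K 2)
        obtain ⟨k, hk⟩ : ∃ k, Fintype.card K = 2 * k := ⟨Fintype.card K / 2, by omega⟩
        rw [hk, mul_nsmul, two_nsmul, H.add_self hD, nsmul_zero]
      have h' : ∀ t : K, (if t = 0 then (0 : M) else w + w) =
          (w + w) + (if t = 0 then w + w else 0) := by
        intro t
        split
        · rw [H.add_self hD]
        · rw [add_zero]
      rw [Finset.sum_congr rfl fun t _ => h' t, Finset.sum_add_distrib, hk, zero_add,
        Finset.sum_ite_eq' Finset.univ (0 : K), if_pos (Finset.mem_univ _)]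
    rw [hG, Finset.sum_add_distrib, e2, e3, add_zero] at e1
    exact e1
  have hneg : ∀ {w : M}, w ∈ P → -w = w := fun hw => neg_eq_of_add_eq_zero_left (h2 hw)
  -- conjugating the displacement by the torus
  have hconj : ∀ (a : Kˣ) (w : M), disp r ((a : K) * a) (r (hEl a) w) = r (hEl a) (disp r 1 w) := by
    intro a w
    rw [disp, disp, map_sub, ← hEl_u_swap, mul_one]
  have hshift : ∀ t : Kˣ, disp r (t : K) v = r (hEl t) (disp r 1 v) := by
    by_cases hA : ∀ a : K, a ≠ 0 → a ≠ 1 → a⁻¹ = a + 1
    · intro t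
      obtain ⟨a, ha⟩ := exists_sq_unit t
      by_cases ha1 : a = 1
      · rw [← ha, ha1, one_mul, Units.val_one, hEl_one, act_one]
      have ha1' : (a : K) ≠ 1 := fun h => ha1 (Units.ext h)
      have hinv : ((a⁻¹ : Kˣ) : K) = (a : K) + 1 := by
        rw [Units.val_inv_eq_inv_val]
        exact hA _ a.ne_zero ha1'
      have h2z : (2 : K) = 0 := CharTwo.two_eq_zero
      have hpoly : (a : K) * ((a : K) + 1) = 1 := by
        rw [← hinv, Units.mul_inv]
      have hsq : (a : K) * a = (a : K) + 1 := by linear_combination hpoly - ((a : K) + 1 - 1) * h2z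
      -- linearity of the torus on `P`, up to `fixU`
      obtain ⟨hE, -⟩ := hcomp hvP a 1 a⁻¹ (by rw [hinv, Units.val_one])
      rw [hEl_one, act_one] at hE
      have hlin : ∀ x : M, x ∈ fixU r → ∀ s : K, disp r s x = 0 := fun x hx s => by
        rw [disp, u_eq_self hx, sub_self]
      have hΦ : disp r 1 (r (hEl a⁻¹) v) = disp r 1 (r (hEl a) v) + disp r 1 v := by
        have e := hlin _ hE 1
        rw [sub_eq_add_neg, hneg hvP, disp_add_right, disp_add_right] at e
        calc disp r 1 (r (hEl a⁻¹) v) = -(disp r 1 (r (hEl a) v) + disp r 1 v) := by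
              rw [eq_neg_iff_add_eq_zero, ← add_assoc]; exact e
          _ = _ := H.neg_eq (add_mem (H.disp_mem (hPh hvP a).1 _) (H.disp_mem hvP.1 _))
      set p := disp r 1 v with hp
      set q := disp r 1 (r (hEl a) v) with hq
      have hpC : p ∈ fixU r := H.disp_mem hvP.1 _
      have hqC : q ∈ fixU r := H.disp_mem (hPh hvP a).1 _
      have f1 : disp r ((a : K) * a) v = r (hEl a) q + r (hEl a) p := by
        have := hconj a (r (hEl a⁻¹) v)
        rwa [h_h, mul_inv_cancel, hEl_one, act_one, hΦ, map_add] at this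
      have f2 : disp r ((a : K)) v = r (hEl a⁻¹) q := by
        have e := hconj a⁻¹ (r (hEl a) v)
        rw [h_h, inv_mul_cancel, hEl_one, act_one] at e
        rw [← e]
        congr 1
        rw [hinv]
        linear_combination -hsq - ((a : K) + 1) * h2z
      have hsum3 : disp r ((a : K) * a) v + disp r (a : K) v + p = 0 := by
        have h1 : ((a : K) * a + a) + 1 = 0 := by
          rw [hsq]; linear_combination ((a : K) + 1) * h2z
        rw [hp, ← H.disp_add_left hvP.1, ← H.disp_add_left hvP.1, h1, disp_zero]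
      have hh : r (hEl a⁻¹) q = r (hEl a) q + q := by
        have := H.sc_add hqC (a : K) 1
        rwa [← hinv, H.sc_unit hqC, H.sc_unit hqC, H.sc_one hqC] at this
      have hrel : q = r (hEl a) p + p := by
        rw [f1, f2, hh] at hsum3
        have hqq : r (hEl a) q + r (hEl a) q = 0 := H.add_self (hEl_mem_fixU r hqC a)
        have e : q + (r (hEl a) p + p) = 0 :=
          calc q + (r (hEl a) p + p)
              = r (hEl a) q + r (hEl a) p + (r (hEl a) q + q) + p
                  - (r (hEl a) q + r (hEl a) q) := by abel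
            _ = 0 := by rw [hsum3, hqq, sub_zero]
        rw [eq_neg_of_add_eq_zero_left e, H.neg_eq (add_mem (hEl_mem_fixU r hpC a) hpC)]
      rw [← ha, Units.val_mul, f1, hrel, map_add, h_h, add_assoc,
        H.add_self (hEl_mem_fixU r hpC a), add_zero]
    · push Not at hA
      obtain ⟨x, hx0, hx1, hx⟩ := hA
      set xu := Units.mk0 x hx0
      have h2z : (2 : K) = 0 := CharTwo.two_eq_zero
      have hx1' : x + 1 ≠ 0 := fun h => hx1 (by linear_combination h - h2z)
      set e : K := (x + 1)⁻¹ + x⁻¹ + 1 with he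
      have he0 : e ≠ 0 := fun h => hx (by
        rw [he] at h
        field_simp at h
        apply mul_left_cancel₀ hx0
        rw [mul_inv_cancel₀ hx0]
        linear_combination h - (x * x + 2 * x) * h2z)
      have hzero : ∀ {w : M}, w ∈ P → disp r e w = 0 := by
        intro w hw
        have := (hcomp hw xu 1 (Units.mk0 _ hx1') rfl).2
        rw [h2 hw] at this
        rw [he, H.disp_add_left hw.1, H.disp_add_left hw.1]
        simp only [hgdef, xu, Units.val_inv_eq_inv_val, Units.val_mk0, Units.val_one, inv_one]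
          at this
        rw [this]
        abel
      have h10 : ∀ {w : M}, w ∈ P → disp r 1 w = 0 := by
        intro w hw
        obtain ⟨a, ha⟩ := exists_sq_unit (Units.mk0 e he0)
        have h := hconj a w
        rw [← Units.val_mul, ha, Units.val_mk0, hzero (hPh hw a)] at h
        exact act_inj r (hEl a) (by rw [map_zero, ← h])
      intro t
      obtain ⟨a, ha⟩ := exists_sq_unit t
      have h := hconj a (r (hEl a⁻¹) v)
      rw [h_h, mul_inv_cancel, hEl_one, act_one, h10 (hPh hvP _), map_zero, ← Units.val_mul,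
        ha] at h
      rw [h, h10 hvP, map_zero]
  apply hvn
  set p := disp r 1 v
  have hpC : p ∈ fixU r := H.disp_mem hvP.1 _
  have hv' : v + r wEl p ∈ fixU r := by
    intro t
    by_cases ht : t = 0
    · rw [ht, uEl_zero, act_one]
    · rw [← Units.val_mk0 ht, map_add, u_eq_add_disp _ v, hshift, H.u_w hpC]
      have := H.add_self (hEl_mem_fixU r hpC (Units.mk0 t ht))
      calc v + r (hEl (Units.mk0 t ht)) p + (r wEl p + r (hEl (Units.mk0 t ht)) p)
          = v + r wEl p + (r (hEl (Units.mk0 t ht)) p + r (hEl (Units.mk0 t ht)) p) := by abel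
        _ = _ := by rw [this, add_zero]
  exact mem_natPart.mpr ⟨_, hv', p, hpC, by rw [add_assoc, ← map_add, H.add_self hpC, map_zero,
    add_zero]⟩

end CfsgLib.HigmanSL2.IsFpf
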