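import Cfsg.Agent.HigmanSL2.Split

/-!
# Natural coordinates, and vanishing of equivariant pairings
-/

namespace CfsgLib.HigmanSL2.IsFpf

open Matrix

variable {K : Type*} [Field K] [CharP K 2] [Finite K]
variable {M : Type*} [AddCommGroup M] [Finite M]
variable {r : SpecialLinearGroup (Fin 2) K →* AddMonoid.End M}

/-- A module with a fixed-point-free element of order three is a sum of natural modules. -/
theorem exists_natural (H : IsFpf r) : ∃ (k : ℕ) (Φ : (Fin k → Fin 2 → K) ≃+ M),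
    ∀ (g : SpecialLinearGroup (Fin 2) K) (v : Fin k → Fin 2 → K),
      r g (Φ v) = Φ fun i => g.val.mulVec (v i) := by
  classical
  letI : Module K ↥(fixU r) :=
    { smul := fun t c => ⟨sc r t c, H.sc_mem c.2 t⟩
      one_smul := fun c => Subtype.ext (H.sc_one c.2)
      mul_smul := fun s t c => Subtype.ext (H.sc_mul c.2 s t)
      smul_zero := fun t => Subtype.ext (by show sc r t 0 = 0; simp [sc])
      smul_add := fun t c d => Subtype.ext (sc_add_right (r := r) t (c : M) (d : M))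
      add_smul := fun s t c => Subtype.ext (H.sc_add c.2 s t)
      zero_smul := fun c => Subtype.ext (sc_zero_left (c : M)) }
  haveI : Module.Finite K ↥(fixU r) := Module.Finite.of_finite
  set e := (Module.finBasis K ↥(fixU r)).equivFun.symm
  let F : (Fin (Module.finrank K ↥(fixU r)) → Fin 2 → K) →+ M := AddMonoidHom.mk'
    (fun v => (e (fun i => v i 0) : M) + r wEl (e (fun i => v i 1) : M)) fun v w => by
      have h0 : (fun i => (v + w) i 0) = (fun i => v i 0) + fun i => w i 0 := rfl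
      have h1 : (fun i => (v + w) i 1) = (fun i => v i 1) + fun i => w i 1 := rfl
      rw [h0, h1, map_add e, map_add e, AddSubgroup.coe_add, AddSubgroup.coe_add, map_add]
      abel
  have hinj : Function.Injective F := by
    rw [injective_iff_map_eq_zero]
    intro v hv
    obtain ⟨h0, h1⟩ := H.eq_zero_of_fix_add (e fun i => v i 0).2 (e fun i => v i 1).2 hv
    have h0' : (fun i => v i 0) = 0 := e.injective (by rw [map_zero]; exact Subtype.ext h0)
    have h1' : (fun i => v i 1) = 0 := e.injective (by rw [map_zero]; exact Subtype.ext h1)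
    funext i j
    fin_cases j
    · exact congrFun h0' i
    · exact congrFun h1' i
  have hsurj : Function.Surjective F := by
    intro m
    obtain ⟨a, ha, b, hb, rfl⟩ :=
      mem_natPart.mp (show m ∈ natPart r by rw [H.natPart_eq_top]; trivial)
    refine ⟨fun i => ![e.symm ⟨a, ha⟩ i, e.symm ⟨b, hb⟩ i], ?_⟩
    show (e (fun i => e.symm ⟨a, ha⟩ i) : M) + r wEl (e (fun i => e.symm ⟨b, hb⟩ i) : M) = _
    rw [e.apply_symm_apply, e.apply_symm_apply]
  refine ⟨_, AddEquiv.ofBijective F ⟨hinj, hsurj⟩, ?_⟩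
  have hsm : ∀ (t : K) (f : Fin (Module.finrank K ↥(fixU r)) → K),
      (e (t • f) : M) = sc r t (e f : M) := fun t f => by
    rw [map_smul]
    rfl
  have hw : ∀ v, r wEl (F v) = F fun i => wEl.val.mulVec (v i) := by
    intro v
    show r wEl ((e fun i => v i 0 : ↥(fixU r)) + r wEl (e fun i => v i 1 : ↥(fixU r)) : M) = _
    rw [map_add, w_w, add_comm]
    show _ = (e (fun i => wEl.val.mulVec (v i) 0) : M) + r wEl (e (fun i => wEl.val.mulVec (v i) 1) : M)
    simp [wEl, Matrix.mulVec, dotProduct, Fin.sum_univ_two]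
  have hu : ∀ (t : K) v, r (uEl t) (F v) = F fun i => (uEl t).val.mulVec (v i) := by
    intro t v
    show r (uEl t) ((e fun i => v i 0 : ↥(fixU r)) + r wEl (e fun i => v i 1 : ↥(fixU r)) : M) = _
    show _ = (e (fun i => (uEl t).val.mulVec (v i) 0) : M) +
      r wEl (e (fun i => (uEl t).val.mulVec (v i) 1) : M)
    have e0 : (fun i => (uEl t).val.mulVec (v i) 0) = (fun i => v i 0) + t • fun i => v i 1 := by
      funext i
      simp [uEl, Matrix.mulVec, dotProduct, Fin.sum_univ_two]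
    have e1 : (fun i => (uEl t).val.mulVec (v i) 1) = fun i => v i 1 := by
      funext i
      simp [uEl, Matrix.mulVec, dotProduct, Fin.sum_univ_two]
    rw [e0, e1, map_add e, AddSubgroup.coe_add, hsm, map_add,
      u_eq_self (e fun i => v i 0).2, sc]
    abel
  have hh : ∀ (a : Kˣ) v, r (hEl a) (F v) = F fun i => (hEl a).val.mulVec (v i) := by
    intro a v
    show r (hEl a) ((e fun i => v i 0 : ↥(fixU r)) + r wEl (e fun i => v i 1 : ↥(fixU r)) : M) = _
    show _ = (e (fun i => (hEl a).val.mulVec (v i) 0) : M) +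
      r wEl (e (fun i => (hEl a).val.mulVec (v i) 1) : M)
    have e0 : (fun i => (hEl a).val.mulVec (v i) 0) = (a : K) • fun i => v i 0 := by
      funext i
      simp [hEl, Matrix.mulVec, dotProduct, Fin.sum_univ_two]
    have e1 : (fun i => (hEl a).val.mulVec (v i) 1) = ((a⁻¹ : Kˣ) : K) • fun i => v i 1 := by
      funext i
      simp [hEl, Matrix.mulVec, dotProduct, Fin.sum_univ_two]
    rw [e0, e1, hsm, hsm, map_add, H.sc_unit (e fun i => v i 0).2,
      H.sc_unit (e fun i => v i 1).2, w_h, inv_inv]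
  intro g v
  show r g (F v) = F _
  rcases decompose g with ⟨a, t, rfl⟩ | ⟨s, a, t, rfl⟩
  · rw [act_mul, hu, hh, val_mul]
    simp only [Matrix.mulVec_mulVec]
  · rw [act_mul, act_mul, act_mul, hu, hh, hw, hu, val_mul, val_mul, val_mul]
    simp only [Matrix.mulVec_mulVec, mul_assoc]

/-- An equivariant pairing between such modules vanishes. -/
theorem pairing_eq_zero {A B : Type*} [AddCommGroup A] [Finite A] [AddCommGroup B] [Finite B]
    {rA : SpecialLinearGroup (Fin 2) K →* AddMonoid.End A}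
    {rB : SpecialLinearGroup (Fin 2) K →* AddMonoid.End B}
    (HA : IsFpf rA) (HB : IsFpf rB) (H : IsFpf r) (β : A →+ B →+ M)
    (hβ : ∀ g a b, β (rA g a) (rB g b) = r g (β a b)) (a : A) (b : B) : β a b = 0 := by
  have hcd : ∀ {c d}, c ∈ fixU rA → d ∈ fixU rB → β c d ∈ fixU r := fun hc hd t => by
    rw [← hβ, hc, hd]
  -- the component of `β c (w d)` and the scaling law
  have hL : ∀ {c d}, c ∈ fixU rA → d ∈ fixU rB → ∃ γ₀ ∈ fixU r, ∃ γ₂ ∈ fixU r,
      β c (rB wEl d) = γ₀ + r wEl γ₂ ∧ ∀ t : Kˣ, β c (rB (hEl t) d) = r (hEl t) γ₂ := by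
    intro c d hc hd
    obtain ⟨g₀, hg₀, g₂, hg₂, hg⟩ :=
      mem_natPart.mp (show β c (rB wEl d) ∈ natPart r by rw [H.natPart_eq_top]; trivial)
    refine ⟨g₀, hg₀, g₂, hg₂, hg, fun t => ?_⟩
    have e := hβ (uEl (t : K)) c (rB wEl d)
    rw [hc, HB.u_w hd, map_add, hg, map_add, u_eq_self hg₀, H.u_w hg₂, ← add_assoc] at e
    exact add_left_cancel e
  have hR : ∀ {c d}, c ∈ fixU rA → d ∈ fixU rB → ∃ γ₀ ∈ fixU r, ∃ γ₂ ∈ fixU r,
      β (rA wEl c) d = γ₀ + r wEl γ₂ ∧ ∀ t : Kˣ, β (rA (hEl t) c) d = r (hEl t) γ₂ := by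
    intro c d hc hd
    obtain ⟨g₀, hg₀, g₂, hg₂, hg⟩ :=
      mem_natPart.mp (show β (rA wEl c) d ∈ natPart r by rw [H.natPart_eq_top]; trivial)
    refine ⟨g₀, hg₀, g₂, hg₂, hg, fun t => ?_⟩
    have e := hβ (uEl (t : K)) (rA wEl c) d
    rw [hd, HA.u_w hc, map_add, AddMonoidHom.add_apply, hg, map_add, u_eq_self hg₀, H.u_w hg₂,
      ← add_assoc] at e
    exact add_left_cancel e
  have h00 : ∀ {c d}, c ∈ fixU rA → d ∈ fixU rB → β c d = 0 := by
    intro c d hc hd
    obtain ⟨_, -, g, hg, -, h⟩ := hL hc hd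
    obtain ⟨_, -, g', hg', -, h'⟩ := hR hc hd
    have e1 := h 1
    have e1' := h' 1
    rw [hEl_one, act_one, act_one] at e1
    rw [hEl_one, act_one, act_one] at e1'
    obtain ⟨t, ht⟩ := H.exists_unit_ne_one
    have hct := hEl_mem_fixU rA hc t
    obtain ⟨_, -, g'', -, -, h''⟩ := hL hct hd
    have e2 := h'' 1
    rw [hEl_one, act_one, act_one] at e2
    -- `β (t c) (t d) = t² β c d` and also `= t β c d`
    have e3 : β (rA (hEl t) c) (rB (hEl t) d) = r (hEl t) (r (hEl t) (β c d)) := by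
      rw [h'' t, ← e2, h' t, ← e1']
    rw [hβ] at e3
    have e4 : r (hEl t) (β c d) = β c d := (act_inj r (hEl t) e3).symm
    have hm := hcd hc hd
    have hne : (t : K) + 1 ≠ 0 := fun h0 => ht (Units.ext (by
      rw [Units.val_one]
      linear_combination h0 - (CharTwo.two_eq_zero : (2 : K) = 0)))
    have e5 : sc r ((t : K) + 1) (β c d) = 0 := by
      rw [H.sc_add hm, H.sc_unit hm, H.sc_one hm, e4, H.add_self hm]
    rw [← Units.val_mk0 hne, H.sc_unit hm] at e5
    exact act_inj r (hEl (Units.mk0 _ hne)) (by rw [e5, map_zero])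
  have h01 : ∀ {c d}, c ∈ fixU rA → d ∈ fixU rB → β c (rB wEl d) = 0 ∧ β (rA wEl c) d = 0 := by
    intro c d hc hd
    obtain ⟨g₀, hg₀, g₂, hg₂, hg, h⟩ := hL hc hd
    obtain ⟨k₀, hk₀, k₂, hk₂, hk, h'⟩ := hR hc hd
    have e := h 1
    have e' := h' 1
    rw [hEl_one, act_one, act_one, h00 hc hd] at e
    rw [hEl_one, act_one, act_one, h00 hc hd] at e'
    rw [← e, map_zero, add_zero] at hg
    rw [← e', map_zero, add_zero] at hk
    have hwk : β (rA wEl c) d = r wEl (β c (rB wEl d)) := by rw [← hβ, w_w]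
    have h0 : β c (rB wEl d) = 0 := eq_zero_of_mem_fixU r H.fix H.two (by rw [hg]; exact hg₀)
      (by rw [← hwk, hk]; exact hk₀)
    exact ⟨h0, by rw [hwk, h0, map_zero]⟩
  obtain ⟨c, hc, c', hc', rfl⟩ :=
    mem_natPart.mp (show a ∈ natPart rA by rw [HA.natPart_eq_top]; trivial)
  obtain ⟨d, hd, d', hd', rfl⟩ :=
    mem_natPart.mp (show b ∈ natPart rB by rw [HB.natPart_eq_top]; trivial)
  simp only [map_add, AddMonoidHom.add_apply]
  rw [h00 hc hd, (h01 hc hd').1, (h01 hc' hd).2, hβ, h00 hc' hd', map_zero]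
  simp

end CfsgLib.HigmanSL2.IsFpf
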